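import Cfsg.Agent.H881.MF.Gen
import Cfsg.Agent.H394.S8.MTwelveD
import Cfsg.Agent.H704.S8.Defs

/-!
# The chief factor row of `M₁₂` (helper881, with helper394)

`chief : Chief 2 D X` for `X` simple of order 95040, any `D`.
-/

set_option autoImplicit false

namespace Cfsg.Agent.H881.MF

open Cfsg

universe u v

theorem iso_spor {X : Type v} [Group X] [Finite X] (hX : Cfsg.IsM12 X) : Nonempty (X ≃* Spor.M12) := by
  obtain ⟨e⟩ := iso_X hX
  obtain ⟨e'⟩ := iso_M
  exact ⟨e.trans e'.symm⟩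

/-- a `p`-group acting on an abelian group with elements of order `p` fixes one of them -/
theorem exists_fixed {X : Type v} [Group X] [Finite X] {Λ : Type u} [CommGroup Λ] [Finite Λ] (ρ : X →* MulAut Λ)
    {p : ℕ} [Fact p.Prime] (Q : Sylow p X) {y : Λ} (hy : y ^ p = 1) (hy1 : y ≠ 1) :
    ∃ b : Λ, b ≠ 1 ∧ ∀ q ∈ (Q : Subgroup X), ρ q b = b := by
  let E : Subgroup Λ := (powMonoidHom p : Λ →* Λ).ker
  have hE : ∀ {z : Λ}, z ∈ E ↔ z ^ p = 1 := Iff.rfl
  let act : MulAction (Q : Subgroup X) E :=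
    { smul := fun q z => ⟨ρ q z, by rw [hE, ← map_pow, hE.1 z.2, map_one]⟩
      one_smul := fun z => Subtype.ext (by
        show ρ ((1 : (Q : Subgroup X)) : X) (z : Λ) = z
        rw [Subgroup.coe_one, map_one]; rfl)
      mul_smul := fun a b z => Subtype.ext (by
        show ρ ((a * b : (Q : Subgroup X)) : X) (z : Λ) = ρ a (ρ b z)
        rw [Subgroup.coe_mul, map_mul]; rfl) }
  have hd : p ∣ Nat.card E := by
    have h1 : orderOf (⟨y, hE.2 hy⟩ : E) = p :=
      orderOf_eq_prime (Subtype.ext hy) fun h => hy1 (congrArg Subtype.val h)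
    rw [← h1]
    exact orderOf_dvd_natCard _
  have h1 : (1 : E) ∈ MulAction.fixedPoints (Q : Subgroup X) E := fun q => Subtype.ext (map_one _)
  obtain ⟨b, hb, hne⟩ := Q.2.exists_fixed_point_of_prime_dvd_card_of_fixed_point E hd h1
  refine ⟨b, fun h => hne (Subtype.ext h.symm), fun q hq => ?_⟩
  exact congrArg Subtype.val (hb ⟨q, hq⟩)

/-- **The chief factor row of `M₁₂`.** -/
theorem chief {X : Type v} [Group X] [Finite X] (hX : Cfsg.IsM12 X) (D : Set ℕ) :
    Cfsg.Agent.H704.S8.Chief.{u} 2 D X := by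
  intro Λ _ _ ρ hst x
  by_contra hx
  obtain ⟨e⟩ := iso_spor hX
  have := hX.1
  have ho : orderOf x ≠ 1 := fun h => hx (orderOf_eq_one_iff.1 h)
  obtain ⟨r, hr, hdvd⟩ := Nat.exists_prime_and_dvd ho
  obtain ⟨m, hm⟩ := hdvd
  have hpos : 0 < orderOf x := orderOf_pos x
  have hm0 : m ≠ 0 := by rintro rfl; omega
  have hy : (x ^ m) ^ r = 1 := by rw [← pow_mul, mul_comm, ← hm, pow_orderOf_eq_one]
  have hy1 : x ^ m ≠ 1 := by
    intro h
    have h1 := orderOf_dvd_of_pow_eq_one h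
    rw [hm] at h1
    have h2 := Nat.le_of_dvd (Nat.pos_of_ne_zero hm0) h1
    have h3 := hr.two_le
    have h4 : 2 * m ≤ r * m := Nat.mul_le_mul_right _ h3
    omega
  have hst' : ∀ x : Λ, x ≠ 1 → ∃ T : Subgroup X, (∀ g, g ∈ T ↔ ρ g x = x) ∧ T ≠ ⊤ ∧
      Nat.card X < 2 * (Nat.card T * Nat.card (ConjClasses T)) := by
    intro x hx
    obtain ⟨T, h1, h2, h3, -⟩ := hst x hx
    exact ⟨T, h1, h2, h3⟩
  by_cases h5 : 5 ≤ r
  · exact hy1 (Cfsg.Agent.H394.S8.chief_five e hX.2 (card_invol hX) (fun g => gen_two hX g) (fun g => gen_three hX g)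
      ρ hst' hr h5 _ hy)
  have hr23 : r = 2 ∨ r = 3 := by
    have h2 := hr.two_le
    have h4 : r ≠ 4 := by rintro rfl; exact absurd hr (by norm_num)
    omega
  rcases hr23 with rfl | rfl
  · have : Fact (Nat.Prime 2) := ⟨Nat.prime_two⟩
    obtain ⟨Q⟩ : Nonempty (Sylow 2 X) := inferInstance
    obtain ⟨b, hb, hfix⟩ := exists_fixed ρ Q hy hy1
    obtain ⟨T, h1, h2, h3⟩ := hst' b hb
    have h4 := big_two hX T h2 Q fun q hq => (h1 q).2 (hfix q hq)
    rw [hX.2] at h3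
    omega
  · have : Fact (Nat.Prime 3) := ⟨Nat.prime_three⟩
    obtain ⟨Q⟩ : Nonempty (Sylow 3 X) := inferInstance
    obtain ⟨b, hb, hfix⟩ := exists_fixed ρ Q hy hy1
    obtain ⟨T, h1, h2, h3⟩ := hst' b hb
    have h4 := big_three hX T h2 Q fun q hq => (h1 q).2 (hfix q hq)
    rw [hX.2] at h3
    omega

end Cfsg.Agent.H881.MF
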