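import Cfsg.Agent.H347.HX.Eng

/-!
# Packed permutations of 12 points and overgroups of a subgroup (helper881)

`ofT T`: the permutation with the packed table `T` (12 digits of 4 bits).  `cover`: a double coset enumeration
`M = ⋃ R gᵢ R` checked by the kernel; `overgroups`: if every `gᵢ` outside two subgroups `Y₁`, `Y₂` generates `M` with `R`, then
every proper subgroup `T ≥ R` of `M` is contained in `Y₁` or in `Y₂`.
-/

set_option autoImplicit false

namespace Cfsg.Agent.H881.MF

open Cfsg.Agent.H347.HX (alb of_alb)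

/-- digit of 4 bits -/
def nb (T i : ℕ) : ℕ := Nat.land (Nat.shiftRight T (Nat.mul 4 i)) 15

/-- the table is injective with values below 12 -/
def injT (T : ℕ) : Bool := alb 12 fun i => bif Nat.blt (nb T i) 12 then
  (alb i fun j => bif Nat.beq (nb T i) (nb T j) then false else true) else false

theorem lt_of_injT {T : ℕ} (h : injT T = true) (i : Fin 12) : nb T i < 12 := by
  have h1 := of_alb h i i.2
  rcases h2 : Nat.blt (nb T i) 12 with _ | _
  · rw [h2, cond_false] at h1; cases h1
  · rwa [Nat.blt_eq] at h2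

theorem inj_of_injT {T : ℕ} (h : injT T = true) :
    Function.Injective fun i : Fin 12 => (⟨nb T i, lt_of_injT h i⟩ : Fin 12) := by
  have key : ∀ i j : ℕ, i < 12 → j < i → nb T i ≠ nb T j := by
    intro i j hi hj he
    have h1 := of_alb h i hi
    have h2 : Nat.blt (nb T i) 12 = true := by
      rw [Nat.blt_eq]; exact lt_of_injT h ⟨i, hi⟩
    rw [h2, cond_true] at h1
    have h3 := of_alb h1 j hj
    rw [he, Nat.beq_refl, cond_true] at h3
    cases h3
  intro i j hij
  have he : nb T i = nb T j := congrArg Fin.val hij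
  rcases lt_trichotomy (i : ℕ) j with h1 | h1 | h1
  · exact absurd he.symm (key j i j.2 h1)
  · exact Fin.ext h1
  · exact absurd he (key i j i.2 h1)

/-- the permutation of a packed table -/
noncomputable def ofT (T : ℕ) : Equiv.Perm (Fin 12) :=
  if h : injT T = true then Equiv.ofBijective _ (Finite.injective_iff_bijective.1 (inj_of_injT h)) else 1

theorem ofT_apply {T : ℕ} (h : injT T = true) (i : Fin 12) : (ofT T i : ℕ) = nb T i := by
  unfold ofT
  rw [dif_pos h]
  rfl

/-- image of a point under a product of tables -/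
def apl : List ℕ → ℕ → ℕ
  | [], i => i
  | T :: l, i => nb T (apl l i)

/-- product of tables -/
noncomputable def pr (l : List ℕ) : Equiv.Perm (Fin 12) := (l.map ofT).prod

theorem pr_nil : pr [] = 1 := rfl

theorem pr_cons (T : ℕ) (l : List ℕ) : pr (T :: l) = ofT T * pr l := by
  unfold pr; rw [List.map_cons, List.prod_cons]

theorem pr_one (T : ℕ) : pr [T] = ofT T := by rw [pr_cons, pr_nil, mul_one]

theorem pr_append (u v : List ℕ) : pr (u ++ v) = pr u * pr v := by
  unfold pr; rw [List.map_append, List.prod_append]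

theorem pr_apply {l : List ℕ} (hl : ∀ T ∈ l, injT T = true) (i : Fin 12) : (pr l i : ℕ) = apl l i := by
  induction l with
  | nil => rfl
  | cons T l ih =>
    rw [pr_cons, Equiv.Perm.mul_apply, ofT_apply (hl T List.mem_cons_self),
      ih fun U hU => hl U (List.mem_cons_of_mem _ hU)]
    rfl

/-- equality test -/
def eqt (u w : List ℕ) : Bool := alb 12 fun i => Nat.beq (apl u i) (apl w i)

theorem pr_eq {u w : List ℕ} (hu : ∀ T ∈ u, injT T = true) (hw : ∀ T ∈ w, injT T = true) (h : eqt u w = true) :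
    pr u = pr w := by
  apply Equiv.ext
  intro i
  apply Fin.ext
  rw [pr_apply hu, pr_apply hw]
  exact Nat.eq_of_beq_eq_true (of_alb h i i.2)

/-- all entries of a list are tables -/
def allT (l : List ℕ) : Bool := l.all injT

theorem of_allT {l : List ℕ} (h : allT l = true) : ∀ T ∈ l, injT T = true := by
  unfold allT at h
  rwa [List.all_eq_true] at h

/-- equality test with validity -/
def eqv (u w : List ℕ) : Bool := bif allT u then (bif allT w then eqt u w else false) else false

theorem pr_eqv {u w : List ℕ} (h : eqv u w = true) : pr u = pr w := by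
  unfold eqv at h
  rcases h1 : allT u with _ | _
  · rw [h1, cond_false] at h; cases h
  rcases h2 : allT w with _ | _
  · rw [h1, cond_true, h2, cond_false] at h; cases h
  rw [h1, cond_true, h2, cond_true] at h
  exact pr_eq (of_allT h1) (of_allT h2) h

/-- letters of a word -/
def sel (l : List ℕ) (w : List ℕ) : List ℕ := w.map fun k => l.getD k 0xba9876543210

theorem ofT_id : ofT 0xba9876543210 = 1 := by
  rw [← pr_one, ← pr_nil]
  exact pr_eqv (by decide +kernel)

theorem pr_sel_mem {T : Subgroup (Equiv.Perm (Fin 12))} {l : List ℕ} (hl : ∀ U ∈ l, ofT U ∈ T) (w : List ℕ) :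
    pr (sel l w) ∈ T := by
  induction w with
  | nil => exact one_mem _
  | cons k w ih =>
    have h1 : pr (sel l (k :: w)) = ofT (l.getD k 0xba9876543210) * pr (sel l w) := by
      unfold sel; rw [List.map_cons, pr_cons]
    rw [h1]
    refine mul_mem ?_ ih
    rw [List.getD_eq_getElem?_getD]
    rcases h2 : l[k]? with _ | U
    · rw [Option.getD_none, ofT_id]; exact one_mem _
    · rw [Option.getD_some]; exact hl U (List.mem_of_getElem? h2)

/-- a table is a word in given tables -/
def isW (l : List ℕ) (w : List ℕ) (U : ℕ) : Bool := eqv (sel l w) [U]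

theorem mem_of_isW {T : Subgroup (Equiv.Perm (Fin 12))} {l w : List ℕ} {U : ℕ} (h : isW l w U = true)
    (hl : ∀ U ∈ l, ofT U ∈ T) : ofT U ∈ T := by
  rw [← pr_one, ← pr_eqv h]
  exact pr_sel_mem hl w

/-- table number `i` of a packed list of tables -/
def tn (RT i : ℕ) : ℕ := Nat.land (Nat.shiftRight RT (Nat.mul 48 i)) 0xffffffffffff

/-! ### Double cosets -/

/-- the entry of `letter * ρ a * g` : `ρ a' * g i' * ρ k` (6 bits for `a'`, 6 bits for `k`, 8 bits for `i'`) -/
def chE (RT GT n m lt g : ℕ) (E a : ℕ) : Bool :=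
  (fun q : ℕ => bif Nat.blt (Nat.land q 63) n then (bif Nat.blt (Nat.land (Nat.shiftRight q 6) 63) n then
    (bif Nat.blt (Nat.shiftRight q 12) m then
      eqt [lt, tn RT a, g] [tn RT (Nat.land q 63), tn GT (Nat.shiftRight q 12), tn RT (Nat.land (Nat.shiftRight q 6) 63)]
    else false) else false) else false) (Nat.land (Nat.shiftRight E (Nat.mul 20 a)) 0xfffff)

/-- row of the check -/
def chR (RT GT n m lt g E : ℕ) : Bool := alb n fun a => chE RT GT n m lt g E a

theorem of_chE {RT GT n m lt g E a : ℕ} (h : chE RT GT n m lt g E a = true) :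
    ∃ a' < n, ∃ i' < m, ∃ k < n, eqt [lt, tn RT a, g] [tn RT a', tn GT i', tn RT k] = true := by
  unfold chE at h
  set q := Nat.land (Nat.shiftRight E (Nat.mul 20 a)) 0xfffff
  change (bif Nat.blt (Nat.land q 63) n then (bif Nat.blt (Nat.land (Nat.shiftRight q 6) 63) n then
    (bif Nat.blt (Nat.shiftRight q 12) m then
      eqt [lt, tn RT a, g] [tn RT (Nat.land q 63), tn GT (Nat.shiftRight q 12), tn RT (Nat.land (Nat.shiftRight q 6) 63)]
    else false) else false) else false) = true at h
  rcases h1 : Nat.blt (Nat.land q 63) n with _ | _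
  · rw [h1, cond_false] at h; cases h
  rcases h2 : Nat.blt (Nat.land (Nat.shiftRight q 6) 63) n with _ | _
  · rw [h1, cond_true, h2, cond_false] at h; cases h
  rcases h3 : Nat.blt (Nat.shiftRight q 12) m with _ | _
  · rw [h1, cond_true, h2, cond_true, h3, cond_false] at h; cases h
  rw [h1, cond_true, h2, cond_true, h3, cond_true] at h
  rw [Nat.blt_eq] at h1 h2 h3
  exact ⟨_, h1, _, h3, _, h2, h⟩

/-- **the double cosets cover** -/
theorem cover {RT GT n m x y : ℕ} (hx : injT x = true) (hy : injT y = true)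
    (hR : ∀ a < n, injT (tn RT a) = true) (hG : ∀ i < m, injT (tn GT i) = true)
    (h0 : ∃ a < n, ∃ i < m, ∃ k < n, eqt [] [tn RT a, tn GT i, tn RT k] = true)
    (R : Subgroup (Equiv.Perm (Fin 12))) (hRm : ∀ a < n, ofT (tn RT a) ∈ R)
    (hcx : ∀ i < m, ∃ E, chR RT GT n m x (tn GT i) E = true) (hcy : ∀ i < m, ∃ E, chR RT GT n m y (tn GT i) E = true)
    {g : Equiv.Perm (Fin 12)} (hg : g ∈ Subgroup.closure {ofT x, ofT y}) :
    ∃ a < n, ∃ i < m, ∃ b ∈ R, g = ofT (tn RT a) * ofT (tn GT i) * b := by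
  have step : ∀ (l : ℕ) (_ : injT l = true) (_ : ∀ i < m, ∃ E, chR RT GT n m l (tn GT i) E = true)
      (z : Equiv.Perm (Fin 12)), (∃ a < n, ∃ i < m, ∃ b ∈ R, z = ofT (tn RT a) * ofT (tn GT i) * b) →
      ∃ a < n, ∃ i < m, ∃ b ∈ R, ofT l * z = ofT (tn RT a) * ofT (tn GT i) * b := by
    rintro l hl hc z ⟨a, ha, i, hi, b, hb, rfl⟩
    obtain ⟨E, hE⟩ := hc i hi
    obtain ⟨a', ha', i', hi', k, hk, he⟩ := of_chE (of_alb hE a ha)
    have h1 : pr [l, tn RT a, tn GT i] = pr [tn RT a', tn GT i', tn RT k] := by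
      refine pr_eq ?_ ?_ he
      · intro T hT
        simp only [List.mem_cons, List.not_mem_nil, or_false] at hT
        rcases hT with rfl | rfl | rfl
        exacts [hl, hR a ha, hG i hi]
      · intro T hT
        simp only [List.mem_cons, List.not_mem_nil, or_false] at hT
        rcases hT with rfl | rfl | rfl
        exacts [hR a' ha', hG i' hi', hR k hk]
    simp only [pr_cons, pr_nil, mul_one] at h1
    refine ⟨a', ha', i', hi', ofT (tn RT k) * b, mul_mem (hRm k hk) hb, ?_⟩
    calc ofT l * (ofT (tn RT a) * ofT (tn GT i) * b) = (ofT l * (ofT (tn RT a) * ofT (tn GT i))) * b := by group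
      _ = _ := by rw [h1]; group
  have hbase : ∃ a < n, ∃ i < m, ∃ b ∈ R, (1 : Equiv.Perm (Fin 12)) = ofT (tn RT a) * ofT (tn GT i) * b := by
    obtain ⟨a, ha, i, hi, k, hk, he⟩ := h0
    have h1 : pr [] = pr [tn RT a, tn GT i, tn RT k] := by
      refine pr_eq (fun T hT => absurd hT List.not_mem_nil) ?_ he
      intro T hT
      simp only [List.mem_cons, List.not_mem_nil, or_false] at hT
      rcases hT with rfl | rfl | rfl
      exacts [hR a ha, hG i hi, hR k hk]
    simp only [pr_cons, pr_nil, mul_one] at h1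
    exact ⟨a, ha, i, hi, _, hRm k hk, by rw [h1, mul_assoc]⟩
  have hfin : (Subgroup.closure {ofT x, ofT y}).toSubmonoid = Submonoid.closure {ofT x, ofT y} :=
    Subgroup.closure_toSubmonoid_of_finite
  have hg' : g ∈ Submonoid.closure {ofT x, ofT y} := by
    rw [← hfin]; exact hg
  induction hg' using Submonoid.closure_induction_left with
  | one => exact hbase
  | mul_left l hl z hz ih =>
    have ih' := ih (by rw [← Subgroup.mem_toSubmonoid, hfin]; exact hz)
    rcases hl with rfl | rfl
    · exact step x hx hcx z ih'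
    · exact step y hy hcy z ih'

/-- **overgroups** -/
theorem overgroups {RT GT n m x y : ℕ} {R M : Subgroup (Equiv.Perm (Fin 12))}
    (hRm : ∀ a < n, ofT (tn RT a) ∈ R)
    (hcov : ∀ g ∈ M, ∃ a < n, ∃ i < m, ∃ b ∈ R, g = ofT (tn RT a) * ofT (tn GT i) * b)
    (Y₁ Y₂ : Subgroup (Equiv.Perm (Fin 12))) (h1 : R ≤ Y₁) (h2 : R ≤ Y₂) (hM : M = Subgroup.closure {ofT x, ofT y})
    (hi : ∀ i < m, ofT (tn GT i) ∈ Y₁ ∨ ofT (tn GT i) ∈ Y₂ ∨
      ∀ T : Subgroup (Equiv.Perm (Fin 12)), R ≤ T → ofT (tn GT i) ∈ T → ofT x ∈ T ∧ ofT y ∈ T)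
    (T : Subgroup (Equiv.Perm (Fin 12))) (hT : T ≤ M) (hne : T ≠ M) (hRT : R ≤ T) : T ≤ Y₁ ∨ T ≤ Y₂ := by
  have key : ∀ g ∈ T, g ∈ Y₁ ∨ g ∈ Y₂ := by
    intro g hg
    obtain ⟨a, ha, i, hi', b, hb, rfl⟩ := hcov g (hT hg)
    have h3 : ofT (tn GT i) ∈ T := by
      have h4 := mul_mem (mul_mem (inv_mem (hRT (hRm a ha))) hg) (inv_mem (hRT hb))
      have h5 : (ofT (tn RT a))⁻¹ * (ofT (tn RT a) * ofT (tn GT i) * b) * b⁻¹ = ofT (tn GT i) := by group
      rwa [h5] at h4
    rcases hi i hi' with h4 | h4 | h4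
    · exact Or.inl (mul_mem (mul_mem (h1 (hRm a ha)) h4) (h1 hb))
    · exact Or.inr (mul_mem (mul_mem (h2 (hRm a ha)) h4) (h2 hb))
    · exfalso
      apply hne
      refine le_antisymm hT ?_
      rw [hM, Subgroup.closure_le]
      obtain ⟨hx, hy⟩ := h4 T hRT h3
      rintro z (rfl | rfl)
      exacts [hx, hy]
  by_contra hcon
  push Not at hcon
  obtain ⟨hn1, hn2⟩ := hcon
  obtain ⟨a, ha, ha1⟩ := SetLike.not_le_iff_exists.1 hn1
  obtain ⟨b, hb, hb1⟩ := SetLike.not_le_iff_exists.1 hn2
  have ha2 : a ∈ Y₂ := (key a ha).resolve_left ha1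
  have hb2 : b ∈ Y₁ := (key b hb).resolve_right hb1
  rcases key (a * b) (mul_mem ha hb) with h | h
  · apply ha1
    have := mul_mem h (inv_mem hb2)
    rwa [mul_inv_cancel_right] at this
  · apply hb1
    have := mul_mem (inv_mem ha2) h
    rwa [inv_mul_cancel_left] at this

/-! ### Small groups -/

/-- the group generated by `gens` is contained in the union of the cosets `d j * R` -/
theorem mem_cosets {gens : List ℕ} {DT RT m n : ℕ} {R : Subgroup (Equiv.Perm (Fin 12))}
    (hR : ∀ k < n, ofT (tn RT k) ∈ R) (hinjR : ∀ k < n, injT (tn RT k) = true) (hinjD : ∀ j < m, injT (tn DT j) = true)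
    (hg : ∀ l ∈ gens, injT l = true) (h0 : ∃ j < m, tn DT j = 0xba9876543210)
    (hs : ∀ l ∈ gens, ∀ j < m, ∃ j' < m, ∃ k < n, eqt [l, tn DT j] [tn DT j', tn RT k] = true)
    {g : Equiv.Perm (Fin 12)} (h : g ∈ Subgroup.closure {z | ∃ l ∈ gens, z = ofT l}) :
    ∃ j < m, ∃ b ∈ R, g = ofT (tn DT j) * b := by
  have hfin : (Subgroup.closure {z | ∃ l ∈ gens, z = ofT l}).toSubmonoid =
      Submonoid.closure {z | ∃ l ∈ gens, z = ofT l} := Subgroup.closure_toSubmonoid_of_finite
  have hg' : g ∈ Submonoid.closure {z | ∃ l ∈ gens, z = ofT l} := by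
    rw [← hfin]; exact h
  induction hg' using Submonoid.closure_induction_left with
  | one =>
    obtain ⟨j, hj, he⟩ := h0
    exact ⟨j, hj, 1, one_mem _, by rw [he, ofT_id, mul_one]⟩
  | mul_left l hl z hz ih =>
    obtain ⟨j, hj, b, hb, rfl⟩ := ih (by rw [← Subgroup.mem_toSubmonoid, hfin]; exact hz)
    obtain ⟨l', hl', rfl⟩ := hl
    obtain ⟨j', hj', k, hk, he⟩ := hs l' hl' j hj
    have h1 : pr [l', tn DT j] = pr [tn DT j', tn RT k] := by
      refine pr_eq ?_ ?_ he
      · intro T hT
        simp only [List.mem_cons, List.not_mem_nil, or_false] at hT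
        rcases hT with rfl | rfl
        exacts [hg _ hl', hinjD j hj]
      · intro T hT
        simp only [List.mem_cons, List.not_mem_nil, or_false] at hT
        rcases hT with rfl | rfl
        exacts [hinjD j' hj', hinjR k hk]
    simp only [pr_cons, pr_nil, mul_one] at h1
    refine ⟨j', hj', ofT (tn RT k) * b, mul_mem (hR k hk) hb, ?_⟩
    rw [← mul_assoc, ← mul_assoc, h1]

end Cfsg.Agent.H881.MF
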