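import Cfsg.Agent.H881.MF.Base

/-!
# Checks for overgroups (helper881)
-/

set_option autoImplicit false

namespace Cfsg.Agent.H881.MF

open Cfsg.Agent.H347.HX (alb of_alb)

/-- the group generated by tables -/
def cl (gens : List ℕ) : Subgroup (Equiv.Perm (Fin 12)) := Subgroup.closure {z | ∃ l ∈ gens, z = ofT l}

theorem mem_cl {gens : List ℕ} : ∀ U ∈ gens, ofT U ∈ cl gens := fun U hU => Subgroup.subset_closure ⟨U, hU, rfl⟩

theorem cl_le {gens : List ℕ} {T : Subgroup (Equiv.Perm (Fin 12))} (h : ∀ U ∈ gens, ofT U ∈ T) : cl gens ≤ T := by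
  unfold cl
  rw [Subgroup.closure_le]
  rintro z ⟨l, hl, rfl⟩
  exact h l hl

/-- rows of the double coset check -/
def chL (RT GT n m lt : ℕ) : List ℕ → ℕ → Bool
  | [], _ => true
  | E :: l, i => bif chR RT GT n m lt (tn GT i) E then chL RT GT n m lt l (Nat.succ i) else false

theorem of_chL {RT GT n m lt : ℕ} : ∀ {l : List ℕ} {i : ℕ}, chL RT GT n m lt l i = true →
    ∀ j < l.length, ∃ E, chR RT GT n m lt (tn GT (i + j)) E = true
  | [], _, _ => fun j hj => absurd hj (Nat.not_lt_zero j)
  | E :: l, i, h => by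
    have h1 : (bif chR RT GT n m lt (tn GT i) E then chL RT GT n m lt l (Nat.succ i) else false) = true := h
    rcases h2 : chR RT GT n m lt (tn GT i) E with _ | _
    · rw [h2, cond_false] at h1; cases h1
    rw [h2, cond_true] at h1
    intro j hj
    rcases j with _ | j
    · exact ⟨E, h2⟩
    · have h3 := of_chL h1 j (Nat.lt_of_succ_lt_succ hj)
      rwa [show i + (j + 1) = Nat.succ i + j by omega]

/-- the tables number `i, i + 1, ...` are words -/
def chW (l : List ℕ) (GT : ℕ) : List (List ℕ) → ℕ → Bool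
  | [], _ => true
  | w :: ws, i => bif isW l w (tn GT i) then chW l GT ws (Nat.succ i) else false

theorem of_chW {l : List ℕ} {GT : ℕ} : ∀ {ws : List (List ℕ)} {i : ℕ}, chW l GT ws i = true →
    ∀ j < ws.length, ofT (tn GT (i + j)) ∈ cl l
  | [], _, _ => fun j hj => absurd hj (Nat.not_lt_zero j)
  | w :: ws, i, h => by
    have h1 : (bif isW l w (tn GT i) then chW l GT ws (Nat.succ i) else false) = true := h
    rcases h2 : isW l w (tn GT i) with _ | _
    · rw [h2, cond_false] at h1; cases h1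
    rw [h2, cond_true] at h1
    intro j hj
    rcases j with _ | j
    · exact mem_of_isW h2 mem_cl
    · have h3 := of_chW h1 j (Nat.lt_of_succ_lt_succ hj)
      rwa [show i + (j + 1) = Nat.succ i + j by omega]

/-- the double coset number `i`: `0` with words of `x` and `y` in `gens` and the representative, `1` or `2` with a word
of the representative in the generators of `Y₁` or `Y₂` -/
def chI (gens : List ℕ) (h1 h2 x y GT : ℕ) : List (ℕ × List ℕ × List ℕ) → ℕ → Bool
  | [], _ => true
  | (0, u, v) :: l, i => bif isW (gens ++ [tn GT i]) u x then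
      (bif isW (gens ++ [tn GT i]) v y then chI gens h1 h2 x y GT l (Nat.succ i) else false) else false
  | (1, u, _) :: l, i => bif isW (gens ++ [h1]) u (tn GT i) then chI gens h1 h2 x y GT l (Nat.succ i) else false
  | (_ + 2, u, _) :: l, i => bif isW (gens ++ [h2]) u (tn GT i) then chI gens h1 h2 x y GT l (Nat.succ i) else false

theorem bif_true {a b : Bool} (h : (bif a then b else false) = true) : a = true ∧ b = true := by
  rcases a with _ | _
  · cases h
  · exact ⟨rfl, h⟩

theorem of_chI {gens : List ℕ} {h1 h2 x y GT : ℕ} : ∀ {l : List (ℕ × List ℕ × List ℕ)} {i : ℕ},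
    chI gens h1 h2 x y GT l i = true → ∀ j < l.length,
      ofT (tn GT (i + j)) ∈ cl (gens ++ [h1]) ∨ ofT (tn GT (i + j)) ∈ cl (gens ++ [h2]) ∨
      ∀ T : Subgroup (Equiv.Perm (Fin 12)), cl gens ≤ T → ofT (tn GT (i + j)) ∈ T → ofT x ∈ T ∧ ofT y ∈ T
  | [], _, _ => fun j hj => absurd hj (Nat.not_lt_zero j)
  | (0, u, v) :: l, i, h => by
    obtain ⟨e1, e2⟩ := bif_true (show (bif isW (gens ++ [tn GT i]) u x then
      (bif isW (gens ++ [tn GT i]) v y then chI gens h1 h2 x y GT l (Nat.succ i) else false) else false) = true from h)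
    obtain ⟨e3, e4⟩ := bif_true e2
    intro j hj
    rcases j with _ | j
    · right; right
      intro T hR hT
      have hmem : ∀ U ∈ gens ++ [tn GT i], ofT U ∈ T := by
        intro U hU
        rcases List.mem_append.1 hU with hU | hU
        · exact hR (mem_cl U hU)
        · rw [List.mem_singleton.1 hU]; exact hT
      exact ⟨mem_of_isW e1 hmem, mem_of_isW e3 hmem⟩
    · have h3 := of_chI e4 j (Nat.lt_of_succ_lt_succ hj)
      rwa [show i + (j + 1) = Nat.succ i + j by omega]
  | (1, u, _) :: l, i, h => by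
    obtain ⟨e1, e2⟩ := bif_true (show (bif isW (gens ++ [h1]) u (tn GT i) then
      chI gens h1 h2 x y GT l (Nat.succ i) else false) = true from h)
    intro j hj
    rcases j with _ | j
    · left; exact mem_of_isW e1 mem_cl
    · have h3 := of_chI e2 j (Nat.lt_of_succ_lt_succ hj)
      rwa [show i + (j + 1) = Nat.succ i + j by omega]
  | (_ + 2, u, _) :: l, i, h => by
    obtain ⟨e1, e2⟩ := bif_true (show (bif isW (gens ++ [h2]) u (tn GT i) then
      chI gens h1 h2 x y GT l (Nat.succ i) else false) = true from h)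
    intro j hj
    rcases j with _ | j
    · right; left; exact mem_of_isW e1 mem_cl
    · have h3 := of_chI e2 j (Nat.lt_of_succ_lt_succ hj)
      rwa [show i + (j + 1) = Nat.succ i + j by omega]

/-- the coset check of a letter -/
def chS (DT RT n m l E : ℕ) : Bool := alb m fun j =>
  (fun q : ℕ => bif Nat.blt (Nat.land q 63) n then (bif Nat.blt (Nat.shiftRight q 6) m then
    eqt [l, tn DT j] [tn DT (Nat.shiftRight q 6), tn RT (Nat.land q 63)] else false) else false)
    (Nat.land (Nat.shiftRight E (Nat.mul 16 j)) 0xffff)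

theorem of_chS {DT RT n m l E : ℕ} (h : chS DT RT n m l E = true) (j : ℕ) (hj : j < m) :
    ∃ j' < m, ∃ k < n, eqt [l, tn DT j] [tn DT j', tn RT k] = true := by
  have h1 := of_alb h j hj
  set q := Nat.land (Nat.shiftRight E (Nat.mul 16 j)) 0xffff
  change (bif Nat.blt (Nat.land q 63) n then (bif Nat.blt (Nat.shiftRight q 6) m then
    eqt [l, tn DT j] [tn DT (Nat.shiftRight q 6), tn RT (Nat.land q 63)] else false) else false) = true at h1
  obtain ⟨e1, e2⟩ := bif_true h1
  obtain ⟨e3, e4⟩ := bif_true e2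
  rw [Nat.blt_eq] at e1 e3
  exact ⟨_, e3, _, e1, e4⟩

/-- the coset check for all letters -/
def chSs (DT RT n m : ℕ) (gens Es : List ℕ) : Bool :=
  bif Nat.beq gens.length Es.length then (gens.zip Es).all fun p => chS DT RT n m p.1 p.2 else false

theorem of_chSs {DT RT n m : ℕ} {gens Es : List ℕ} (h : chSs DT RT n m gens Es = true) :
    ∀ l ∈ gens, ∀ j < m, ∃ j' < m, ∃ k < n, eqt [l, tn DT j] [tn DT j', tn RT k] = true := by
  obtain ⟨e1, e2⟩ := bif_true h
  have e3 := Nat.eq_of_beq_eq_true e1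
  rw [List.all_eq_true] at e2
  intro l hl
  obtain ⟨i, hi, rfl⟩ := List.mem_iff_getElem.1 hl
  have hi' : i < Es.length := e3 ▸ hi
  have hz : i < (gens.zip Es).length := by rw [List.length_zip]; omega
  have h1 : (gens[i], Es[i]) ∈ gens.zip Es := by
    rw [List.mem_iff_getElem]
    exact ⟨i, hz, by rw [List.getElem_zip]⟩
  exact of_chS (e2 _ h1)

/-- the tables number `0, ..., m - 1` are valid -/
def chV (DT m : ℕ) : Bool := alb m fun j => injT (tn DT j)

/-- identity -/
abbrev idt : ℕ := 0xba9876543210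

/-- **a group of at most `m` elements** -/
theorem list_of {gens Es : List ℕ} {RT m : ℕ} (hg : allT gens = true) (hv : chV RT m = true) (hm : 0 < m)
    (h0 : Nat.beq (tn RT 0) idt = true) (hs : chSs RT idt 1 m gens Es = true)
    {g : Equiv.Perm (Fin 12)} (h : g ∈ cl gens) : ∃ j < m, g = ofT (tn RT j) := by
  obtain ⟨j, hj, b, hb, rfl⟩ := mem_cosets (gens := gens) (DT := RT) (RT := idt) (m := m) (n := 1) (R := ⊥)
    (fun k hk => by
      have hk0 : k = 0 := by omega
      subst hk0
      rw [show tn idt 0 = 0xba9876543210 from by decide +kernel, ofT_id]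
      exact one_mem _)
    (fun k hk => by
      have hk0 : k = 0 := by omega
      subst hk0
      decide +kernel)
    (fun j hj => of_alb hv j hj) (of_allT hg) ⟨0, hm, Nat.eq_of_beq_eq_true h0⟩ (of_chSs hs) h
  exact ⟨j, hj, by rw [Subgroup.mem_bot.1 hb, mul_one]⟩

/-- **a group which is a union of `m` cosets** -/
theorem cosets_of {gens gR Es : List ℕ} {RT DT m n : ℕ} (hg : allT gens = true) (hvR : chV RT n = true)
    (hvD : chV DT m = true) (hm : 0 < m) (h0 : Nat.beq (tn DT 0) idt = true)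
    (hR : ∀ k < n, ofT (tn RT k) ∈ cl gR) (hs : chSs DT RT n m gens Es = true)
    {g : Equiv.Perm (Fin 12)} (h : g ∈ cl gens) : ∃ j < m, ∃ b ∈ cl gR, g = ofT (tn DT j) * b :=
  mem_cosets hR (fun k hk => of_alb hvR k hk) (fun j hj => of_alb hvD j hj) (of_allT hg)
    ⟨0, hm, Nat.eq_of_beq_eq_true h0⟩ (of_chSs hs) h

theorem card_le_of_list {T : Subgroup (Equiv.Perm (Fin 12))} {m : ℕ} (f : ℕ → Equiv.Perm (Fin 12))
    (h : ∀ g ∈ T, ∃ j < m, g = f j) : Nat.card T ≤ m := by
  choose! j hj hg using h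
  have hinj : Function.Injective fun g : T => (⟨j g, hj g g.2⟩ : Fin m) := by
    intro a b hab
    have e : j a = j b := congrArg Fin.val hab
    apply Subtype.ext
    rw [hg a a.2, hg b b.2, e]
  have h1 := Nat.card_le_card_of_injective _ hinj
  rwa [Nat.card_eq_fintype_card (α := Fin m), Fintype.card_fin] at h1

theorem card_classes_le {T : Subgroup (Equiv.Perm (Fin 12))} {m : ℕ} (f : ℕ → Equiv.Perm (Fin 12))
    (h : ∀ g ∈ T, ∃ i < m, ∃ u ∈ T, u * g * u⁻¹ = f i) : Nat.card (ConjClasses T) ≤ m := by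
  have h' : ∀ c : ConjClasses T, ∃ i : Fin m, ∃ g : T, ∃ u : T, ConjClasses.mk g = c ∧
      ((u * g * u⁻¹ : T) : Equiv.Perm (Fin 12)) = f i := by
    intro c
    obtain ⟨g, rfl⟩ := ConjClasses.mk_surjective c
    obtain ⟨i, hi, u, hu, he⟩ := h g g.2
    exact ⟨⟨i, hi⟩, g, ⟨u, hu⟩, rfl, he⟩
  choose i g u hg hu using h'
  have hinj : Function.Injective i := by
    intro a b hab
    have e : u a * g a * (u a)⁻¹ = u b * g b * (u b)⁻¹ := by
      apply Subtype.ext
      rw [hu a, hu b, hab]
    rw [← hg a, ← hg b, ConjClasses.mk_eq_mk_iff_isConj, isConj_iff]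
    refine ⟨(u b)⁻¹ * u a, ?_⟩
    calc (u b)⁻¹ * u a * g a * ((u b)⁻¹ * u a)⁻¹ = (u b)⁻¹ * (u a * g a * (u a)⁻¹) * u b := by group
      _ = g b := by rw [e]; group
  have h1 := Nat.card_le_card_of_injective _ hinj
  rwa [Nat.card_eq_fintype_card (α := Fin m), Fintype.card_fin] at h1

/-- conjugation entries: `u * (d j * ρ k) = t i * u`, `u = d j' * ρ k'` -/
def chC (DT RT CT n m c : ℕ) (Es : List ℕ) : Bool := bif Nat.beq Es.length m then
  (alb m fun j => alb n fun k =>
    (fun q : ℕ => bif Nat.blt (Nat.land q 31) n then (bif Nat.blt (Nat.land (Nat.shiftRight q 5) 15) m then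
      (bif Nat.blt (Nat.shiftRight q 9) c then
        eqt [tn DT (Nat.land (Nat.shiftRight q 5) 15), tn RT (Nat.land q 31), tn DT j, tn RT k]
          [tn CT (Nat.shiftRight q 9), tn DT (Nat.land (Nat.shiftRight q 5) 15), tn RT (Nat.land q 31)] else false)
      else false) else false) (Nat.land (Nat.shiftRight (Es.getD j 0) (Nat.mul 16 k)) 0xffff)) else false

theorem of_chC {DT RT CT n m c : ℕ} {Es : List ℕ} (h : chC DT RT CT n m c Es = true) (j : ℕ) (hj : j < m) (k : ℕ)
    (hk : k < n) : ∃ j' < m, ∃ k' < n, ∃ i < c,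
      eqt [tn DT j', tn RT k', tn DT j, tn RT k] [tn CT i, tn DT j', tn RT k'] = true := by
  obtain ⟨-, e2⟩ := bif_true h
  have h1 := of_alb (of_alb e2 j hj) k hk
  set q := Nat.land (Nat.shiftRight (Es.getD j 0) (Nat.mul 16 k)) 0xffff
  obtain ⟨f1, f2⟩ := bif_true h1
  obtain ⟨f3, f4⟩ := bif_true f2
  obtain ⟨f5, f6⟩ := bif_true f4
  rw [Nat.blt_eq] at f1 f3 f5
  exact ⟨_, f3, _, f1, _, f5, f6⟩

end Cfsg.Agent.H881.MF
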