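import Cfsg.Agent.H881.MF.Over

/-!
# Generation of `M₁₂` by conjugates (helper881)

* `gen_two`: two conjugates of an element of order at least 3 generate `M₁₂`;
* `gen_three`: three conjugates of an element `≠ 1` generate `M₁₂`;
* `card_invol`: at most 7128 involutions.
-/

set_option autoImplicit false
set_option maxRecDepth 100000

namespace Cfsg.Agent.H881.MF

open Cfsg
open Cfsg.Agent.H347.HX (alb of_alb)
open Cfsg.Agent.H932.Mt Cfsg.Agent.H24.M12

/-- tables of the representatives -/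
def GK (k : ℕ) : ℕ := [0xba9876543210, 0xb0543698721a, 0x50b41a927836, 0xb69a48320715, 0x251783a06b94, 0x542168b0a973, 0xa2987b501643, 0x5a964218073b, 0x8639152a4b7, 0x80431972a6b5, 0x1936857b4a2, 0x2839b5a47106, 0x758a30649b21, 0x15372048ba69, 0x2a193b86457].getD k 0

/-- check of the tables of the representatives -/
def chK (k : ℕ) : Bool := bif injT (GK k) then
  (alb 12 fun i => Nat.beq (Nat.div (aw (RW k) (Nat.mul 2 i)) 2) (nb (GK k) i)) else false

theorem k_K : (alb 15 chK) = true := by decide +kernel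

theorem lpH_rp (k : ℕ) (hk : k < 15) : lpH (rp k) = ofT (GK k) := by
  obtain ⟨h1, h2⟩ := bif_true (of_alb k_K k hk)
  apply Equiv.ext
  intro i
  apply Fin.ext
  rw [ofT_apply h1]
  have h3 := Nat.eq_of_beq_eq_true (of_alb h2 i i.2)
  rw [← h3]
  exact lp_el (RW k) i

/-- every element of `M` is conjugate in `M` to a representative -/
theorem classes_M (z : Equiv.Perm (Fin 12)) (hz : z ∈ M) : ∃ k < 15, ∃ u ∈ M, z = u * ofT (GK k) * u⁻¹ := by
  rw [← range_lpH] at hz
  obtain ⟨g, rfl⟩ := hz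
  obtain ⟨k, hk⟩ := classes g
  refine ⟨k, k.2, ?_⟩
  have hneg : lpH neg = 1 := by
    have h : neg ∈ lpH.ker := by rw [ker_lpH]; exact sig_neg
    exact h
  rcases hk with hk | hk
  · obtain ⟨c, hc⟩ := isConj_iff.1 hk.symm
    refine ⟨lpH c, by rw [← range_lpH]; exact ⟨_, rfl⟩, ?_⟩
    rw [← lpH_rp k k.2, ← hc, map_mul, map_mul, map_inv]
  · obtain ⟨c, hc⟩ := isConj_iff.1 hk.symm
    refine ⟨lpH c, by rw [← range_lpH]; exact ⟨_, rfl⟩, ?_⟩
    rw [← lpH_rp k k.2, ← hc, map_mul, map_mul, map_inv, map_mul, hneg, one_mul]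

theorem mem_xy : ∀ U ∈ [Two.tx, Two.ty], ofT U ∈ M := by
  intro U hU
  simp only [List.mem_cons, List.not_mem_nil, or_false] at hU
  rcases hU with rfl | rfl
  · exact Subgroup.subset_closure (Or.inl rfl)
  · exact Subgroup.subset_closure (Or.inr rfl)

/-- `g` and its conjugate by `h` generate -/
def G2 (z : Equiv.Perm (Fin 12)) : Prop :=
  ∃ h ∈ M, ∀ T : Subgroup (Equiv.Perm (Fin 12)), z ∈ T → h * z * h⁻¹ ∈ T → M ≤ T

/-- `g` and two conjugates generate -/
def G3 (z : Equiv.Perm (Fin 12)) : Prop :=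
  ∃ h ∈ M, ∃ k ∈ M, ∀ T : Subgroup (Equiv.Perm (Fin 12)), z ∈ T → h * z * h⁻¹ ∈ T → k * z * k⁻¹ ∈ T → M ≤ T

theorem M_le {T : Subgroup (Equiv.Perm (Fin 12))} (hx : ofT Two.tx ∈ T) (hy : ofT Two.ty ∈ T) : M ≤ T := by
  unfold M
  rw [Subgroup.closure_le]
  rintro z (rfl | rfl)
  exacts [hx, hy]

/-- check: `c = h g h⁻¹`, words of the generators in `g, c` -/
def ch2 (g h c : ℕ) (wh wx wy : List ℕ) : Bool :=
  bif isW [Two.tx, Two.ty] wh h then (bif eqv [c, h] [h, g] then (bif isW [g, c] wx Two.tx then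
    isW [g, c] wy Two.ty else false) else false) else false

theorem of_ch2 {g h c : ℕ} {wh wx wy : List ℕ} (hc : ch2 g h c wh wx wy = true) : G2 (ofT g) := by
  obtain ⟨e1, e2⟩ := bif_true hc
  obtain ⟨e3, e4⟩ := bif_true e2
  obtain ⟨e5, e6⟩ := bif_true e4
  refine ⟨ofT h, mem_of_isW e1 mem_xy, fun T h1 h2 => ?_⟩
  have h3 := pr_eqv e3
  simp only [pr_cons, pr_nil, mul_one] at h3
  rw [mul_inv_eq_of_eq_mul h3.symm] at h2
  have hm : ∀ U ∈ [g, c], ofT U ∈ T := by
    intro U hU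
    simp only [List.mem_cons, List.not_mem_nil, or_false] at hU
    rcases hU with rfl | rfl
    exacts [h1, h2]
  exact M_le (mem_of_isW e5 hm) (mem_of_isW e6 hm)

/-- check for three conjugates -/
def ch3 (g h c k d : ℕ) (wh wk wx wy : List ℕ) : Bool :=
  bif isW [Two.tx, Two.ty] wh h then (bif isW [Two.tx, Two.ty] wk k then (bif eqv [c, h] [h, g] then
    (bif eqv [d, k] [k, g] then (bif isW [g, c, d] wx Two.tx then
    isW [g, c, d] wy Two.ty else false) else false) else false) else false) else false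

theorem of_ch3 {g h c k d : ℕ} {wh wk wx wy : List ℕ} (hc : ch3 g h c k d wh wk wx wy = true) : G3 (ofT g) := by
  obtain ⟨e1, e2⟩ := bif_true hc
  obtain ⟨e3, e4⟩ := bif_true e2
  obtain ⟨e5, e6⟩ := bif_true e4
  obtain ⟨e7, e8⟩ := bif_true e6
  obtain ⟨e9, e10⟩ := bif_true e8
  refine ⟨ofT h, mem_of_isW e1 mem_xy, ofT k, mem_of_isW e3 mem_xy, fun T h1 h2 h3 => ?_⟩
  have h4 := pr_eqv e5
  have h5 := pr_eqv e7
  simp only [pr_cons, pr_nil, mul_one] at h4 h5
  rw [mul_inv_eq_of_eq_mul h4.symm] at h2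
  rw [mul_inv_eq_of_eq_mul h5.symm] at h3
  have hm : ∀ U ∈ [g, c, d], ofT U ∈ T := by
    intro U hU
    simp only [List.mem_cons, List.not_mem_nil, or_false] at hU
    rcases hU with rfl | rfl | rfl
    exacts [h1, h2, h3]
  exact M_le (mem_of_isW e9 hm) (mem_of_isW e10 hm)

theorem G2.three {z : Equiv.Perm (Fin 12)} (h : G2 z) : G3 z := by
  obtain ⟨h, hh, H⟩ := h
  exact ⟨h, hh, 1, one_mem _, fun T h1 h2 _ => H T h1 h2⟩

theorem G2.conj {z u : Equiv.Perm (Fin 12)} (hz : G2 z) (hu : u ∈ M) : G2 (u * z * u⁻¹) := by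
  obtain ⟨h, hh, H⟩ := hz
  refine ⟨u * h * u⁻¹, mul_mem (mul_mem hu hh) (inv_mem hu), fun T h1 h2 => ?_⟩
  have h3 := H (T.comap (MulAut.conj u).toMonoidHom) (by rw [Subgroup.mem_comap]; exact h1) (by
    rw [Subgroup.mem_comap]
    show u * (h * z * h⁻¹) * u⁻¹ ∈ T
    have e : u * h * u⁻¹ * (u * z * u⁻¹) * (u * h * u⁻¹)⁻¹ = u * (h * z * h⁻¹) * u⁻¹ := by group
    rwa [e] at h2)
  intro m hm
  have h4 := h3 (show u⁻¹ * m * u ∈ M from mul_mem (mul_mem (inv_mem hu) hm) hu)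
  rw [Subgroup.mem_comap] at h4
  have e : u * (u⁻¹ * m * u) * u⁻¹ = m := by group
  rw [← e]
  exact h4

theorem G3.conj {z u : Equiv.Perm (Fin 12)} (hz : G3 z) (hu : u ∈ M) : G3 (u * z * u⁻¹) := by
  obtain ⟨h, hh, k, hk, H⟩ := hz
  refine ⟨u * h * u⁻¹, mul_mem (mul_mem hu hh) (inv_mem hu), u * k * u⁻¹, mul_mem (mul_mem hu hk) (inv_mem hu),
    fun T h1 h2 h2' => ?_⟩
  have h3 := H (T.comap (MulAut.conj u).toMonoidHom) (by rw [Subgroup.mem_comap]; exact h1) (by
    rw [Subgroup.mem_comap]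
    show u * (h * z * h⁻¹) * u⁻¹ ∈ T
    have e : u * h * u⁻¹ * (u * z * u⁻¹) * (u * h * u⁻¹)⁻¹ = u * (h * z * h⁻¹) * u⁻¹ := by group
    rwa [e] at h2) (by
    rw [Subgroup.mem_comap]
    show u * (k * z * k⁻¹) * u⁻¹ ∈ T
    have e : u * k * u⁻¹ * (u * z * u⁻¹) * (u * k * u⁻¹)⁻¹ = u * (k * z * k⁻¹) * u⁻¹ := by group
    rwa [e] at h2')
  intro m hm
  have h4 := h3 (show u⁻¹ * m * u ∈ M from mul_mem (mul_mem (inv_mem hu) hm) hu)
  rw [Subgroup.mem_comap] at h4
  have e : u * (u⁻¹ * m * u) * u⁻¹ = m := by group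
  rw [← e]
  exact h4

theorem g1 : G3 (ofT (GK 1)) := of_ch3 (h := 0x2475b90831a6) (c := 0x3a950486b217) (k := 0x6180372954ab) (d := 0x1a02763458b9)
  (wh := [1, 0, 0]) (wk := [0, 0, 1, 0])
  (wx := [2, 1, 2, 0, 1, 2, 1, 2, 0, 2, 1])
  (wy := [0]) (by decide +kernel)

theorem g2 : G2 (ofT (GK 2)) := of_ch2 (h := 0x410a32597b86) (c := 0xa9b732058164) (wh := [0, 1, 0, 1, 0, 0])
  (wx := [1, 0, 1, 0, 1, 0, 0, 1, 0, 0, 1, 0, 1, 1, 0])
  (wy := [1, 0, 1, 1, 0, 1, 0, 0, 1, 1, 0, 0, 1, 1, 0, 0, 1, 0, 1, 1, 0, 1, 0]) (by decide +kernel)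

theorem g3 : G2 (ofT (GK 3)) := of_ch2 (h := 0x8160ab245937) (c := 0x4a8267935b1) (wh := [0, 0, 0])
  (wx := [0, 0, 1, 0, 1, 0, 1, 0, 1, 0, 0, 1, 1, 0, 0, 1])
  (wy := [0, 0, 1, 0, 1, 1, 0, 1, 0, 1, 1, 0, 1, 0, 1, 1, 0, 0, 1, 0, 1, 1]) (by decide +kernel)

theorem g4 : G3 (ofT (GK 4)) := of_ch3 (h := 0x2475b90831a6) (c := 0x5736a8b09124) (k := 0x19732a84b065) (d := 0xab8967452301)
  (wh := [1, 0, 0]) (wk := [0, 0, 0, 0])
  (wx := [1, 0, 1, 0, 2, 0, 2, 1, 2, 0, 2, 0, 2, 1, 0, 1, 0, 2, 0])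
  (wy := [2, 1, 2, 0, 2, 0, 2, 0, 1, 0, 2, 0, 2, 1, 2, 1, 0, 2]) (by decide +kernel)

theorem g5 : G2 (ofT (GK 5)) := of_ch2 (h := 0x845ba0316927) (c := 0x205364918a7b) (wh := [0, 1, 0, 0])
  (wx := [0, 1, 1, 0, 0, 1, 0, 1, 1, 0, 1, 0, 0, 1, 0, 1, 0, 1])
  (wy := [1, 0, 0, 1, 0, 0, 1]) (by decide +kernel)

theorem g6 : G2 (ofT (GK 6)) := of_ch2 (h := 0x8160ab245937) (c := 0x8ab156374290) (wh := [0, 0, 0])
  (wx := [1, 1, 0, 0, 0, 1, 1, 1, 0, 1, 1, 1, 0])
  (wy := [1, 0, 1, 1, 0, 0, 0, 1, 1, 0, 1, 1, 0, 0, 0, 1]) (by decide +kernel)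

theorem g7 : G2 (ofT (GK 7)) := of_ch2 (h := 0xb0543698721a) (c := 0x9b14a2568370) (wh := [1])
  (wx := [0, 0, 0, 0, 1, 1, 1, 1])
  (wy := [0, 1, 0, 1, 0, 1, 0, 1, 0, 1, 0]) (by decide +kernel)

theorem g8 : G2 (ofT (GK 8)) := of_ch2 (h := 0xa20157b46893) (c := 0xb3a492085167) (wh := [0])
  (wx := [0, 0, 0, 1, 1, 1, 0])
  (wy := [1, 1, 1]) (by decide +kernel)

theorem g9 : G2 (ofT (GK 9)) := of_ch2 (h := 0x79136580b42a) (c := 0x98a63215b704) (wh := [0, 0, 0, 1, 0])
  (wx := [0, 0, 0, 0, 1, 0, 0, 1, 1, 1, 0, 0])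
  (wy := [1, 1, 0, 0, 0, 0, 0, 0, 1, 0, 0]) (by decide +kernel)

theorem g10 : G2 (ofT (GK 10)) := of_ch2 (h := 0x46810a723b59) (c := 0x21b87569403a) (wh := [0, 1, 0, 0, 0, 1])
  (wx := [0, 0, 1, 0, 0, 1, 0, 1, 0, 1, 1, 0, 1])
  (wy := [1, 1, 1, 1, 1, 0, 0, 0, 0, 1, 1, 1]) (by decide +kernel)

theorem g11 : G2 (ofT (GK 11)) := of_ch2 (h := 0xb0543698721a) (c := 0x26083975b1a4) (wh := [1])
  (wx := [0, 0, 0, 0, 0, 0])
  (wy := [0, 1, 0, 1, 0, 1, 0, 1, 0, 1, 0]) (by decide +kernel)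

theorem g12 : G2 (ofT (GK 12)) := of_ch2 (h := 0xb0543698721a) (c := 0x31685a407b29) (wh := [1])
  (wx := [0, 0, 0, 0, 0])
  (wy := [0, 1, 0, 1, 0, 1, 0, 1, 0, 1, 0]) (by decide +kernel)

theorem g13 : G2 (ofT (GK 13)) := of_ch2 (h := 0x2475b90831a6) (c := 0x196537b02a48) (wh := [1, 0, 0])
  (wx := [1, 0, 1, 1, 1, 1, 1, 0, 0, 0, 0, 1])
  (wy := [0, 1, 0, 0, 1, 0, 1, 1, 0, 1, 0]) (by decide +kernel)

theorem g14 : G2 (ofT (GK 14)) := of_ch2 (h := 0x2839b5a47106) (c := 0x32015b79864a) (wh := [0, 0])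
  (wx := [0, 1, 0, 1, 1, 0, 0, 1, 0, 0])
  (wy := [0, 1, 0, 1, 1, 0, 0, 1, 0]) (by decide +kernel)

theorem GK_zero : ofT (GK 0) = 1 := ofT_id

theorem sq_of_eqt {k : ℕ} (h : eqv [GK k, GK k] [] = true) : ofT (GK k) ^ 2 = 1 := by
  have h1 := pr_eqv h
  simp only [pr_cons, pr_nil, mul_one] at h1
  rw [pow_two, h1]

theorem gen_M {z : Equiv.Perm (Fin 12)} (hz : z ∈ M) (h2 : z ^ 2 ≠ 1) : G2 z := by
  obtain ⟨k, hk, u, hu, rfl⟩ := classes_M z hz
  have h3 : ofT (GK k) ^ 2 ≠ 1 := by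
    intro h
    apply h2
    rw [conj_pow, h]
    group
  refine G2.conj ?_ hu
  interval_cases k
  · exact absurd (by rw [GK_zero, one_pow]) h3
  · exact absurd (sq_of_eqt (by decide +kernel)) h3
  · exact g2
  · exact g3
  · exact absurd (sq_of_eqt (by decide +kernel)) h3
  · exact g5
  · exact g6
  · exact g7
  · exact g8
  · exact g9
  · exact g10
  · exact g11
  · exact g12
  · exact g13
  · exact g14

theorem gen_M3 {z : Equiv.Perm (Fin 12)} (hz : z ∈ M) (h1 : z ≠ 1) : G3 z := by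
  by_cases h2 : z ^ 2 = 1
  · obtain ⟨k, hk, u, hu, rfl⟩ := classes_M z hz
    refine G3.conj ?_ hu
    interval_cases k
    · exfalso
      apply h1
      rw [GK_zero]
      group
    · exact g1
    · exact g2.three
    · exact g3.three
    · exact g4
    · exact g5.three
    · exact g6.three
    · exact g7.three
    · exact g8.three
    · exact g9.three
    · exact g10.three
    · exact g11.three
    · exact g12.three
    · exact g13.three
    · exact g14.three
  · exact (gen_M hz h2).three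

/-- **two conjugates generate** -/
theorem gen_two {X : Type*} [Group X] [Finite X] (hX : Cfsg.IsM12 X) (g : X) (hg : g ^ 2 ≠ 1) :
    ∃ h, Subgroup.closure {g, h * g * h⁻¹} = ⊤ := by
  obtain ⟨e⟩ := iso_X hX
  let f : X →* Equiv.Perm (Fin 12) := M.subtype.comp e.toMonoidHom
  have hf : Function.Injective f := M.subtype_injective.comp e.injective
  have hfm : ∀ x, f x ∈ M := fun x => (e x).2
  have hfs : ∀ z ∈ M, ∃ x, f x = z := fun z hz => by
    obtain ⟨x, hx⟩ := e.surjective ⟨z, hz⟩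
    exact ⟨x, congrArg Subtype.val hx⟩
  obtain ⟨h, hh, H⟩ := gen_M (hfm g) (fun h => hg (hf (by rw [map_pow, h, map_one])))
  obtain ⟨h', rfl⟩ := hfs h hh
  refine ⟨h', ?_⟩
  have h1 := H ((Subgroup.closure {g, h' * g * h'⁻¹}).map f) ⟨g, Subgroup.subset_closure (by simp), rfl⟩
    ⟨h' * g * h'⁻¹, Subgroup.subset_closure (by simp), by rw [map_mul, map_mul, map_inv]⟩
  rw [eq_top_iff]
  intro x _
  obtain ⟨y, hy, hxy⟩ := h1 (hfm x)
  rwa [← hf hxy]

/-- **three conjugates generate** -/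
theorem gen_three {X : Type*} [Group X] [Finite X] (hX : Cfsg.IsM12 X) (g : X) (hg : g ≠ 1) :
    ∃ h k, Subgroup.closure {g, h * g * h⁻¹, k * g * k⁻¹} = ⊤ := by
  obtain ⟨e⟩ := iso_X hX
  let f : X →* Equiv.Perm (Fin 12) := M.subtype.comp e.toMonoidHom
  have hf : Function.Injective f := M.subtype_injective.comp e.injective
  have hfm : ∀ x, f x ∈ M := fun x => (e x).2
  have hfs : ∀ z ∈ M, ∃ x, f x = z := fun z hz => by
    obtain ⟨x, hx⟩ := e.surjective ⟨z, hz⟩
    exact ⟨x, congrArg Subtype.val hx⟩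
  obtain ⟨h, hh, k, hk, H⟩ := gen_M3 (hfm g) (fun h => hg (hf (by rw [h, map_one])))
  obtain ⟨h', rfl⟩ := hfs h hh
  obtain ⟨k', rfl⟩ := hfs k hk
  refine ⟨h', k', ?_⟩
  have h1 := H ((Subgroup.closure {g, h' * g * h'⁻¹, k' * g * k'⁻¹}).map f)
    ⟨g, Subgroup.subset_closure (by simp), rfl⟩
    ⟨h' * g * h'⁻¹, Subgroup.subset_closure (by simp), by rw [map_mul, map_mul, map_inv]⟩
    ⟨k' * g * k'⁻¹, Subgroup.subset_closure (by simp), by rw [map_mul, map_mul, map_inv]⟩
  rw [eq_top_iff]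
  intro x _
  obtain ⟨y, hy, hxy⟩ := h1 (hfm x)
  rwa [← hf hxy]

/-! ### Involutions -/

/-- check: the table `c` is a word, commutes with `g`, `c ^ a = 1`, `c ^ b ≠ 1` -/
def chO (g c : ℕ) (w : List ℕ) (a b : ℕ) : Bool :=
  bif isW [Two.tx, Two.ty] w c then (bif eqv [c, g] [g, c] then (bif eqv (List.replicate a c) [] then
    (bif eqt (List.replicate b c) [] then false else true) else false) else false) else false

theorem pr_replicate (a c : ℕ) : pr (List.replicate a c) = ofT c ^ a := by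
  unfold pr
  rw [List.map_replicate, List.prod_replicate]

theorem of_chO {g c : ℕ} {w : List ℕ} {a b : ℕ} (h : chO g c w a b = true) :
    ofT c ∈ M ∧ ofT c * ofT g = ofT g * ofT c ∧ ofT c ^ a = 1 ∧ ofT c ^ b ≠ 1 := by
  obtain ⟨e1, e2⟩ := bif_true h
  obtain ⟨e3, e4⟩ := bif_true e2
  obtain ⟨e5, e6⟩ := bif_true e4
  have h3 := pr_eqv e3
  have h5 := pr_eqv e5
  simp only [pr_cons, pr_nil, mul_one] at h3
  rw [pr_replicate, pr_nil] at h5
  refine ⟨mem_of_isW e1 mem_xy, h3, h5, fun h6 => ?_⟩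
  have hc : injT c = true := by
    unfold eqv at e3
    obtain ⟨f1, -⟩ := bif_true e3
    exact of_allT f1 c List.mem_cons_self
  have h7 : eqt (List.replicate b c) [] = true := by
    have h8 : pr (List.replicate b c) = pr [] := by rw [pr_replicate, pr_nil, h6]
    unfold eqt
    have key : ∀ n ≤ 12, (alb n fun i => Nat.beq (apl (List.replicate b c) i) (apl [] i)) = true := by
      intro n
      induction n with
      | zero => intro _; rfl
      | succ m ih =>
        intro hm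
        show (bif Nat.beq (apl (List.replicate b c) m) (apl [] m) then
          (alb m fun i => Nat.beq (apl (List.replicate b c) i) (apl [] i)) else false) = true
        have h9 := congrArg (fun p : Equiv.Perm (Fin 12) => ((p ⟨m, hm⟩ : Fin 12) : ℕ)) h8
        rw [pr_apply (fun T hT => by rw [List.eq_of_mem_replicate hT]; exact hc),
          pr_apply (fun T hT => absurd hT List.not_mem_nil)] at h9
        have h10 : Nat.beq (apl (List.replicate b c) m) (apl [] m) = true := by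
          rw [show apl (List.replicate b c) m = apl [] m from h9]
          exact Nat.beq_refl _
        rw [h10, cond_true]
        exact ih (Nat.le_of_succ_le hm)
    exact key 12 le_rfl
  rw [h7, cond_true] at e6
  cases e6

theorem dvd_cent {X : Type*} [Group X] [Finite X] {f : X →* Equiv.Perm (Fin 12)} (hf : Function.Injective f)
    (hfs : ∀ z ∈ M, ∃ x, f x = z) {t : X} {g c : ℕ} (ht : f t = ofT g) {w : List ℕ} {p n : ℕ} [Fact p.Prime]
    (h : chO g c w (p ^ (n + 1)) (p ^ n) = true) :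
    p ^ (n + 1) ∣ Nat.card ↥(Subgroup.centralizer ({t} : Set X)) := by
  obtain ⟨h1, h2, h3, h4⟩ := of_chO h
  obtain ⟨x, hx⟩ := hfs _ h1
  have hxc : x ∈ Subgroup.centralizer ({t} : Set X) := by
    rw [Subgroup.mem_centralizer_singleton_iff]
    exact hf (by rw [map_mul, map_mul, hx, ht, h2])
  have ho : orderOf x = p ^ (n + 1) := by
    apply orderOf_eq_prime_pow
    · intro h5
      apply h4
      rw [← hx, ← map_pow, h5, map_one]
    · apply hf
      rw [map_pow, hx, h3, map_one]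
  have h6 : orderOf (⟨x, hxc⟩ : ↥(Subgroup.centralizer ({t} : Set X))) ∣ _ := orderOf_dvd_natCard _
  rwa [← Subgroup.orderOf_coe, ho] at h6

theorem o1_8 : chO (GK 1) 0x2740568a9b13 [0, 1, 0, 1, 0, 0, 0, 1, 0, 0, 1, 0, 1, 0, 0, 1, 0] (2 ^ (2 + 1)) (2 ^ 2) = true := by decide +kernel

theorem o1_3 : chO (GK 1) 0x2a394b758610 [1, 0, 0, 0, 0, 1, 0, 0, 0, 1, 0, 0, 0, 0] (3 ^ (0 + 1)) (3 ^ 0) = true := by decide +kernel

theorem o4_5 : chO (GK 4) 0x7425a60138b9 [1, 0, 1, 0] (5 ^ (0 + 1)) (5 ^ 0) = true := by decide +kernel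

theorem o4_3 : chO (GK 4) 0x47263581a0b9 [0, 1, 0, 1, 0, 0, 0, 0, 1, 0, 1, 0, 1] (3 ^ (0 + 1)) (3 ^ 0) = true := by decide +kernel

theorem class_le {X : Type*} [Group X] [Finite X] (hc : Nat.card X = 95040) (t : X) {n m : ℕ} (hn : 0 < n)
    (hnm : n * m = 95040) (h : n ∣ Nat.card ↥(Subgroup.centralizer ({t} : Set X))) :
    {y : X | IsConj t y}.ncard ≤ m := by
  have h1 := Cfsg.Agent.H235.Ore.ClassList.card_class t
  rw [← Nat.card_coe_set_eq]
  obtain ⟨k, hk⟩ := h
  have hk0 : 0 < k := by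
    rcases Nat.eq_zero_or_pos k with h0 | h0
    · rw [h0, mul_zero] at hk
      have := Nat.card_pos (α := ↥(Subgroup.centralizer ({t} : Set X)))
      omega
    · exact h0
  rw [hk, hc, ← hnm] at h1
  have h2 : Nat.card {y : X // IsConj t y} * n ≤ m * n := by
    calc Nat.card {y : X // IsConj t y} * n ≤ Nat.card {y : X // IsConj t y} * (n * k) :=
          Nat.mul_le_mul_left _ (Nat.le_mul_of_pos_right _ hk0)
      _ = m * n := by rw [h1, mul_comm]
  exact Nat.le_of_mul_le_mul_right h2 hn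

/-- **the number of involutions** -/
theorem card_invol {X : Type*} [Group X] [Finite X] (hX : Cfsg.IsM12 X) :
    Nat.card {g : X // g ^ 2 = 1 ∧ g ≠ 1} ≤ 7128 := by
  obtain ⟨e⟩ := iso_X hX
  let f : X →* Equiv.Perm (Fin 12) := M.subtype.comp e.toMonoidHom
  have hf : Function.Injective f := M.subtype_injective.comp e.injective
  have hfm : ∀ x, f x ∈ M := fun x => (e x).2
  have hfs : ∀ z ∈ M, ∃ x, f x = z := fun z hz => by
    obtain ⟨x, hx⟩ := e.surjective ⟨z, hz⟩
    exact ⟨x, congrArg Subtype.val hx⟩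
  have hG : ∀ k < 15, ofT (GK k) ∈ M := by
    intro k hk
    rw [← lpH_rp k hk, ← range_lpH]
    exact ⟨_, rfl⟩
  obtain ⟨t1, ht1⟩ := hfs _ (hG 1 (by norm_num))
  obtain ⟨t4, ht4⟩ := hfs _ (hG 4 (by norm_num))
  have : Fact (Nat.Prime 2) := ⟨Nat.prime_two⟩
  have : Fact (Nat.Prime 3) := ⟨Nat.prime_three⟩
  have : Fact (Nat.Prime 5) := ⟨Nat.prime_five⟩
  have c1 : {y : X | IsConj t1 y}.ncard ≤ 3960 := by
    refine class_le hX.2 t1 (n := 24) (by norm_num) (by norm_num) ?_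
    have h8 := dvd_cent hf hfs ht1 (p := 2) (n := 2) o1_8
    have h3 := dvd_cent hf hfs ht1 (p := 3) (n := 0) o1_3
    exact Nat.Coprime.mul_dvd_of_dvd_of_dvd (by norm_num) h8 h3
  have c4 : {y : X | IsConj t4 y}.ncard ≤ 3168 := by
    refine class_le hX.2 t4 (n := 30) (by norm_num) (by norm_num) ?_
    have h5 := dvd_cent hf hfs ht4 (p := 5) (n := 0) o4_5
    have h3 := dvd_cent hf hfs ht4 (p := 3) (n := 0) o4_3
    have h2 : 2 ∣ Nat.card ↥(Subgroup.centralizer ({t4} : Set X)) := by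
      have ht2 : t4 ^ 2 = 1 := hf (by rw [map_pow, ht4, sq_of_eqt (by decide +kernel), map_one])
      have htn : t4 ≠ 1 := by
        intro h
        have h6 : ofT (GK 4) = 1 := by rw [← ht4, h, map_one]
        have h7 := congrArg (fun p : Equiv.Perm (Fin 12) => ((p 0 : Fin 12) : ℕ)) h6
        rw [ofT_apply (by decide +kernel)] at h7
        revert h7
        decide +kernel
      have ho : orderOf t4 = 2 := orderOf_eq_prime ht2 htn
      have h6 : orderOf (⟨t4, by rw [Subgroup.mem_centralizer_singleton_iff]⟩ :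
        ↥(Subgroup.centralizer ({t4} : Set X))) ∣ _ := orderOf_dvd_natCard _
      rwa [← Subgroup.orderOf_coe, ho] at h6
    have h10 : 3 * 5 ∣ Nat.card ↥(Subgroup.centralizer ({t4} : Set X)) :=
      Nat.Coprime.mul_dvd_of_dvd_of_dvd (by norm_num) h3 h5
    exact Nat.Coprime.mul_dvd_of_dvd_of_dvd (m := 2) (by norm_num) h2 h10
  have hsub : {g : X | g ^ 2 = 1 ∧ g ≠ 1} ⊆ {y : X | IsConj t1 y} ∪ {y : X | IsConj t4 y} := by
    rintro g ⟨h2, h1⟩
    obtain ⟨k, hk, u, hu, he⟩ := classes_M (f g) (hfm g)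
    obtain ⟨v, rfl⟩ := hfs u hu
    have hconj : ∀ t : X, f t = ofT (GK k) → IsConj t g := by
      intro t ht
      rw [isConj_iff]
      refine ⟨v, hf ?_⟩
      rw [map_mul, map_mul, map_inv, ht, he]
    have hsq : ofT (GK k) ^ 2 = 1 := by
      have h3 : f g ^ 2 = 1 := by rw [← map_pow, h2, map_one]
      rw [he, conj_pow] at h3
      have h4 : ofT (GK k) ^ 2 = (f v)⁻¹ * (f v * ofT (GK k) ^ 2 * (f v)⁻¹) * f v := by group
      rw [h4, h3]
      group
    have hbad : ∀ j < 15, eqt [GK j, GK j] [] = false → injT (GK j) = true → ofT (GK j) ^ 2 ≠ 1 := by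
      intro j _ hj hji h3
      have h4 : pr [GK j, GK j] = pr [] := by
        simp only [pr_cons, pr_nil, mul_one]
        rw [← pow_two, h3]
      have h5 : eqt [GK j, GK j] [] = true := by
        unfold eqt
        have key : ∀ n ≤ 12, (alb n fun i => Nat.beq (apl [GK j, GK j] i) (apl [] i)) = true := by
          intro n
          induction n with
          | zero => intro _; rfl
          | succ m ih =>
            intro hm
            show (bif Nat.beq (apl [GK j, GK j] m) (apl [] m) then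
              (alb m fun i => Nat.beq (apl [GK j, GK j] i) (apl [] i)) else false) = true
            have h9 := congrArg (fun p : Equiv.Perm (Fin 12) => ((p ⟨m, hm⟩ : Fin 12) : ℕ)) h4
            rw [pr_apply (fun T hT => by
                simp only [List.mem_cons, List.not_mem_nil, or_false, or_self] at hT
                rw [hT]; exact hji),
              pr_apply (fun T hT => absurd hT List.not_mem_nil)] at h9
            have h10 : Nat.beq (apl [GK j, GK j] m) (apl [] m) = true := by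
              rw [show apl [GK j, GK j] m = apl [] m from h9]
              exact Nat.beq_refl _
            rw [h10, cond_true]
            exact ih (Nat.le_of_succ_le hm)
        exact key 12 le_rfl
      rw [h5] at hj
      cases hj
    interval_cases k
    · exfalso
      apply h1
      apply hf
      rw [he, GK_zero, map_one]
      group
    · exact Or.inl (hconj t1 ht1)
    · exact absurd hsq (hbad 2 (by norm_num) (by decide +kernel) (by decide +kernel))
    · exact absurd hsq (hbad 3 (by norm_num) (by decide +kernel) (by decide +kernel))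
    · exact Or.inr (hconj t4 ht4)
    · exact absurd hsq (hbad 5 (by norm_num) (by decide +kernel) (by decide +kernel))
    · exact absurd hsq (hbad 6 (by norm_num) (by decide +kernel) (by decide +kernel))
    · exact absurd hsq (hbad 7 (by norm_num) (by decide +kernel) (by decide +kernel))
    · exact absurd hsq (hbad 8 (by norm_num) (by decide +kernel) (by decide +kernel))
    · exact absurd hsq (hbad 9 (by norm_num) (by decide +kernel) (by decide +kernel))
    · exact absurd hsq (hbad 10 (by norm_num) (by decide +kernel) (by decide +kernel))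
    · exact absurd hsq (hbad 11 (by norm_num) (by decide +kernel) (by decide +kernel))
    · exact absurd hsq (hbad 12 (by norm_num) (by decide +kernel) (by decide +kernel))
    · exact absurd hsq (hbad 13 (by norm_num) (by decide +kernel) (by decide +kernel))
    · exact absurd hsq (hbad 14 (by norm_num) (by decide +kernel) (by decide +kernel))
  have h1 : Nat.card {g : X // g ^ 2 = 1 ∧ g ≠ 1} = {g : X | g ^ 2 = 1 ∧ g ≠ 1}.ncard := Nat.card_coe_set_eq _
  rw [h1]
  calc _ ≤ ({y : X | IsConj t1 y} ∪ {y : X | IsConj t4 y}).ncard := Set.ncard_le_ncard hsub (Set.toFinite _)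
    _ ≤ _ := Set.ncard_union_le _ _
    _ ≤ 3960 + 3168 := Nat.add_le_add c1 c4

end Cfsg.Agent.H881.MF
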