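import Cfsg.Agent.H881.MF.TwoDat
import Cfsg.Agent.H881.MF.ThreeDat
import Cfsg.Agent.H24.M12.Cls
import Cfsg.Agent.S0421
import Cfsg.Agent.CpAutTThree.MTwelve
import Mathlib.GroupTheory.CommutingProbability

/-!
# Overgroups of Sylow subgroups of `M₁₂` (helper881)

`big_two`, `big_three`: a proper subgroup `T` of `M₁₂` containing a Sylow 2- or 3-subgroup satisfies
`2 |T| k(T) ≤ |M₁₂|`.
-/

set_option autoImplicit false
set_option maxRecDepth 100000

namespace Cfsg.Agent.H881.MF

open Cfsg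
open Cfsg.Agent.H347.HX (alb of_alb)

theorem card_cosets {T : Subgroup (Equiv.Perm (Fin 12))} {gR : List ℕ} {DT RT m n : ℕ} (hn : 0 < n)
    (h : ∀ g ∈ T, ∃ j < m, ∃ b ∈ cl gR, g = ofT (tn DT j) * b)
    (hR : ∀ b ∈ cl gR, ∃ k < n, b = ofT (tn RT k)) : Nat.card T ≤ m * n := by
  refine card_le_of_list (fun e => ofT (tn DT (e / n)) * ofT (tn RT (e % n))) fun g hg => ?_
  obtain ⟨j, hj, b, hb, rfl⟩ := h g hg
  obtain ⟨k, hk, rfl⟩ := hR b hb
  refine ⟨j * n + k, ?_, ?_⟩
  · calc j * n + k < j * n + n := by omega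
      _ = (j + 1) * n := by ring
      _ ≤ m * n := Nat.mul_le_mul_right _ hj
  · rw [mul_comm j n, Nat.mul_add_div hn, Nat.div_eq_of_lt hk, add_zero, Nat.mul_add_mod, Nat.mod_eq_of_lt hk]

theorem pow_of_alb {RT n k : ℕ} (hv : chV RT n = true)
    (h : (alb n fun j => eqt (List.replicate k (tn RT j)) []) = true) (j : ℕ) (hj : j < n) :
    ofT (tn RT j) ^ k = 1 := by
  have h1 := of_alb h j hj
  have h2 : pr (List.replicate k (tn RT j)) = pr [] := by
    refine pr_eq ?_ (fun T hT => absurd hT List.not_mem_nil) h1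
    intro T hT
    rw [List.eq_of_mem_replicate hT]
    exact of_alb hv j hj
  rw [pr_nil] at h2
  rw [← h2]
  unfold pr
  rw [List.map_replicate, List.prod_replicate]

/-! ### The group -/

/-- `M₁₂` -/
noncomputable def M : Subgroup (Equiv.Perm (Fin 12)) := Subgroup.closure {ofT Two.tx, ofT Two.ty}

namespace Two

theorem mem_R (k : ℕ) (hk : k < 64) : ofT (tn RT k) ∈ cl gens := by
  have hl : wR.length = 64 := by decide +kernel
  have h := of_chW k_wR k (by rw [hl]; exact hk)
  rwa [Nat.zero_add] at h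

theorem list_R (b : Equiv.Perm (Fin 12)) (hb : b ∈ cl gens) : ∃ k < 64, b = ofT (tn RT k) :=
  list_of k_gens k_RT (by norm_num) (by decide +kernel) k_ER hb

theorem p_group : IsPGroup 2 (cl gens) := by
  rintro ⟨g, hg⟩
  obtain ⟨k, hk, rfl⟩ := list_R g hg
  refine ⟨3, Subtype.ext ?_⟩
  exact pow_of_alb k_RT (show (alb 64 fun j => eqt (List.replicate 8 (tn RT j)) []) = true by decide +kernel) k hk

theorem cov (g : Equiv.Perm (Fin 12)) (hg : g ∈ M) :
    ∃ a < 64, ∃ i < 44, ∃ b ∈ cl gens, g = ofT (tn RT a) * ofT (tn GT i) * b := by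
  refine cover k_tx k_ty (fun a ha => of_alb k_RT a ha) (fun i hi => of_alb k_GT i hi)
    ⟨0, by norm_num, 0, by norm_num, 0, by norm_num, by decide +kernel⟩ (cl gens) mem_R ?_ ?_ hg
  · intro i hi
    have hl : EX.length = 44 := by decide +kernel
    have h := of_chL k_x i (by rw [hl]; exact hi)
    rwa [Nat.zero_add] at h
  · intro i hi
    have hl : EY.length = 44 := by decide +kernel
    have h := of_chL k_y i (by rw [hl]; exact hi)
    rwa [Nat.zero_add] at h

theorem cases (T : Subgroup (Equiv.Perm (Fin 12))) (hT : T ≤ M) (hne : T ≠ M) (hR : cl gens ≤ T) :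
    T ≤ cl (gens ++ [h1]) ∨ T ≤ cl (gens ++ [h2]) := by
  refine overgroups mem_R cov _ _ (cl_le fun U hU => mem_cl U (List.mem_append_left _ hU))
    (cl_le fun U hU => mem_cl U (List.mem_append_left _ hU)) rfl ?_ T hT hne hR
  intro i hi
  have hl : II.length = 44 := by decide +kernel
  have h := of_chI k_I i (by rw [hl]; exact hi)
  rwa [Nat.zero_add] at h

theorem card1 : Nat.card (cl (gens ++ [h1])) ≤ 192 :=
  card_cosets (n := 64) (m := 3) (by norm_num)
    (fun _ hg => cosets_of k_h1 k_RT k_V1 (by norm_num) (by decide +kernel) mem_R k_S1 hg) list_R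

theorem card2 : Nat.card (cl (gens ++ [h2])) ≤ 192 :=
  card_cosets (n := 64) (m := 3) (by norm_num)
    (fun _ hg => cosets_of k_h2 k_RT k_V2 (by norm_num) (by decide +kernel) mem_R k_S2 hg) list_R

/-- **proper overgroups of a Sylow 2-subgroup** -/
theorem card_le (T : Subgroup (Equiv.Perm (Fin 12))) (hT : T ≤ M) (hne : T ≠ M) (hR : cl gens ≤ T) :
    Nat.card T ≤ 192 := by
  rcases cases T hT hne hR with h | h
  · exact (Nat.card_le_card_of_injective _ (Subgroup.inclusion_injective h)).trans card1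
  · exact (Nat.card_le_card_of_injective _ (Subgroup.inclusion_injective h)).trans card2

theorem gens_mem : cl gens ≤ M := by
  apply cl_le
  have hm : ∀ U ∈ [tx, ty], ofT U ∈ M := by
    intro U hU
    simp only [List.mem_cons, List.not_mem_nil, or_false] at hU
    rcases hU with rfl | rfl
    · exact Subgroup.subset_closure (Or.inl rfl)
    · exact Subgroup.subset_closure (Or.inr rfl)
  intro U hU
  have e : gens = [gens.getD 0 0, gens.getD 1 0, gens.getD 2 0] := by decide +kernel
  rw [e] at hU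
  simp only [List.mem_cons, List.not_mem_nil, or_false] at hU
  rcases hU with rfl | rfl | rfl
  exacts [mem_of_isW k_wG0 hm, mem_of_isW k_wG1 hm, mem_of_isW k_wG2 hm]

end Two

namespace Three

theorem mem_R (k : ℕ) (hk : k < 27) : ofT (tn RT k) ∈ cl gens := by
  have hl : wR.length = 27 := by decide +kernel
  have h := of_chW k_wR k (by rw [hl]; exact hk)
  rwa [Nat.zero_add] at h

theorem list_R (b : Equiv.Perm (Fin 12)) (hb : b ∈ cl gens) : ∃ k < 27, b = ofT (tn RT k) :=
  list_of k_gens k_RT (by norm_num) (by decide +kernel) k_ER hb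

theorem p_group : IsPGroup 3 (cl gens) := by
  rintro ⟨g, hg⟩
  obtain ⟨k, hk, rfl⟩ := list_R g hg
  refine ⟨1, Subtype.ext ?_⟩
  exact pow_of_alb k_RT (show (alb 27 fun j => eqt (List.replicate 3 (tn RT j)) []) = true by decide +kernel) k hk

theorem cov (g : Equiv.Perm (Fin 12)) (hg : g ∈ M) :
    ∃ a < 27, ∃ i < 152, ∃ b ∈ cl gens, g = ofT (tn RT a) * ofT (tn GT i) * b := by
  refine cover k_tx k_ty (fun a ha => of_alb k_RT a ha) (fun i hi => of_alb k_GT i hi)
    ⟨0, by norm_num, 0, by norm_num, 0, by norm_num, by decide +kernel⟩ (cl gens) mem_R ?_ ?_ hg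
  · intro i hi
    have hl : EX.length = 152 := by decide +kernel
    have h := of_chL k_x i (by rw [hl]; exact hi)
    rwa [Nat.zero_add] at h
  · intro i hi
    have hl : EY.length = 152 := by decide +kernel
    have h := of_chL k_y i (by rw [hl]; exact hi)
    rwa [Nat.zero_add] at h

theorem cases (T : Subgroup (Equiv.Perm (Fin 12))) (hT : T ≤ M) (hne : T ≠ M) (hR : cl gens ≤ T) :
    T ≤ cl (gens ++ [h1]) ∨ T ≤ cl (gens ++ [h2]) := by
  refine overgroups mem_R cov _ _ (cl_le fun U hU => mem_cl U (List.mem_append_left _ hU))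
    (cl_le fun U hU => mem_cl U (List.mem_append_left _ hU)) rfl ?_ T hT hne hR
  intro i hi
  have hl : II.length = 152 := by decide +kernel
  have h := of_chI k_I i (by rw [hl]; exact hi)
  rwa [Nat.zero_add] at h

theorem cos1 (g : Equiv.Perm (Fin 12)) (hg : g ∈ cl (gens ++ [h1])) :
    ∃ j < 16, ∃ b ∈ cl gens, g = ofT (tn D1 j) * b :=
  cosets_of k_h1 k_RT k_V1 (by norm_num) (by decide +kernel) mem_R k_S1 hg

theorem cos2 (g : Equiv.Perm (Fin 12)) (hg : g ∈ cl (gens ++ [h2])) :
    ∃ j < 16, ∃ b ∈ cl gens, g = ofT (tn D2 j) * b :=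
  cosets_of k_h2 k_RT k_V2 (by norm_num) (by decide +kernel) mem_R k_S2 hg

theorem card1 : Nat.card (cl (gens ++ [h1])) ≤ 432 := card_cosets (n := 27) (m := 16) (by norm_num) cos1 list_R

theorem card2 : Nat.card (cl (gens ++ [h2])) ≤ 432 := card_cosets (n := 27) (m := 16) (by norm_num) cos2 list_R

theorem classes_aux {DT CT c : ℕ} {gs : List ℕ} {wD : List (List ℕ)} {EC : List ℕ}
    (hV : chV DT 16 = true) (hw : chW gs DT wD 0 = true) (hl : wD.length = 16) (hVC : chV CT c = true)
    (hC : chC DT RT CT 27 16 c EC = true) (hsub : cl gens ≤ cl gs)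
    (hcos : ∀ g ∈ cl gs, ∃ j < 16, ∃ b ∈ cl gens, g = ofT (tn DT j) * b) :
    Nat.card (ConjClasses (cl gs)) ≤ c := by
  refine card_classes_le (fun i => ofT (tn CT i)) fun g hg => ?_
  obtain ⟨j, hj, b, hb, rfl⟩ := hcos g hg
  obtain ⟨k, hk, rfl⟩ := list_R b hb
  obtain ⟨j', hj', k', hk', i, hi, he⟩ := of_chC hC j hj k hk
  have h1 : pr [tn DT j', tn RT k', tn DT j, tn RT k] = pr [tn CT i, tn DT j', tn RT k'] := by
    refine pr_eq ?_ ?_ he
    · intro T hT
      simp only [List.mem_cons, List.not_mem_nil, or_false] at hT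
      rcases hT with rfl | rfl | rfl | rfl
      exacts [of_alb hV _ hj', of_alb k_RT _ hk', of_alb hV _ hj, of_alb k_RT _ hk]
    · intro T hT
      simp only [List.mem_cons, List.not_mem_nil, or_false] at hT
      rcases hT with rfl | rfl | rfl
      exacts [of_alb hVC _ hi, of_alb hV _ hj', of_alb k_RT _ hk']
  simp only [pr_cons, pr_nil, mul_one] at h1
  have hm := of_chW hw j' (by rw [hl]; exact hj')
  rw [Nat.zero_add] at hm
  refine ⟨i, hi, ofT (tn DT j') * ofT (tn RT k'), mul_mem hm (hsub (mem_R k' hk')), ?_⟩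
  rw [mul_inv_eq_iff_eq_mul, mul_assoc, h1]

theorem k1 : Nat.card (ConjClasses (cl (gens ++ [h1]))) ≤ 11 :=
  classes_aux k_V1 k_wD1 (by decide +kernel) k_VC1 k_C1
    (cl_le fun U hU => mem_cl U (List.mem_append_left _ hU)) cos1

theorem k2 : Nat.card (ConjClasses (cl (gens ++ [h2]))) ≤ 11 :=
  classes_aux k_V2 k_wD2 (by decide +kernel) k_VC2 k_C2
    (cl_le fun U hU => mem_cl U (List.mem_append_left _ hU)) cos2

theorem small_or {T Y : Subgroup (Equiv.Perm (Fin 12))} (h : T ≤ Y) (hY : Nat.card Y ≤ 432) :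
    T = Y ∨ Nat.card T ≤ 216 := by
  have h1 := Subgroup.card_dvd_of_le h
  obtain ⟨k, hk⟩ := h1
  by_cases hk1 : k = 1
  · left
    exact Subgroup.eq_of_le_of_card_ge h (by rw [hk, hk1, mul_one])
  · right
    have h2 : 0 < Nat.card Y := Nat.card_pos
    have h3 : k ≠ 0 := by rintro rfl; omega
    have h4 : Nat.card T * 2 ≤ Nat.card T * k := Nat.mul_le_mul_left _ (by omega)
    omega

/-- **proper overgroups of a Sylow 3-subgroup** -/
theorem le (T : Subgroup (Equiv.Perm (Fin 12))) (hT : T ≤ M) (hne : T ≠ M) (hR : cl gens ≤ T) :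
    Nat.card T ≤ 216 ∨ Nat.card T ≤ 432 ∧ Nat.card (ConjClasses T) ≤ 11 := by
  rcases cases T hT hne hR with h | h
  · rcases small_or h card1 with rfl | h1
    · exact Or.inr ⟨card1, k1⟩
    · exact Or.inl h1
  · rcases small_or h card2 with rfl | h1
    · exact Or.inr ⟨card2, k2⟩
    · exact Or.inl h1

theorem gens_mem : cl gens ≤ M := by
  apply cl_le
  have hm : ∀ U ∈ [tx, ty], ofT U ∈ M := by
    intro U hU
    simp only [List.mem_cons, List.not_mem_nil, or_false] at hU
    rcases hU with rfl | rfl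
    · exact Subgroup.subset_closure (Or.inl rfl)
    · exact Subgroup.subset_closure (Or.inr rfl)
  intro U hU
  have e : gens = [gens.getD 0 0, gens.getD 1 0] := by decide +kernel
  rw [e] at hU
  simp only [List.mem_cons, List.not_mem_nil, or_false] at hU
  rcases hU with rfl | rfl
  exacts [mem_of_isW k_wG0 hm, mem_of_isW k_wG1 hm]

end Three

/-! ### The isomorphism -/

open Cfsg.Agent.H932.Mt Cfsg.Agent.H24.M12

/-- the action of `2.M₁₂` on the rows -/
def lpH : Γ →* Equiv.Perm (Fin 12) where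
  toFun g := lp g
  map_one' := by
    apply Equiv.ext
    intro i
    exact idx_pos i
  map_mul' g h := by
    apply Equiv.ext
    intro i
    exact lp_mul g h i

theorem lp_x : lpH (el [0]) = ofT Two.tx := by
  apply Equiv.ext
  intro i
  apply Fin.ext
  rw [ofT_apply Two.k_tx]
  have h : ∀ i : Fin 12, (lp (el [0]) i).val = nb Two.tx i := by decide +kernel
  exact h i

theorem lp_y : lpH (el [1]) = ofT Two.ty := by
  apply Equiv.ext
  intro i
  apply Fin.ext
  rw [ofT_apply Two.k_ty]
  have h : ∀ i : Fin 12, (lp (el [1]) i).val = nb Two.ty i := by decide +kernel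
  exact h i

theorem range_lpH : lpH.range = M := by
  rw [MonoidHom.range_eq_map, ← closure_gens, MonoidHom.map_closure]
  unfold M
  congr 1
  rw [Set.image_insert_eq, Set.image_singleton, lp_x, lp_y]

theorem ker_lpH : lpH.ker = sig.ker := by
  ext g
  rw [MonoidHom.mem_ker, MonoidHom.mem_ker]
  constructor
  · intro h
    have h1 : ∀ i, lp g i = i := fun i => congrArg (fun p : Equiv.Perm (Fin 12) => p i) h
    rcases of_diag (y := g) h1 with rfl | rfl
    · exact map_one _
    · exact sig_neg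
  · intro h
    rcases eq_of_sig h with rfl | rfl
    · exact map_one _
    · apply Equiv.ext
      intro i
      have h2 : ∀ i : Fin 12, lp neg i = i := by decide +kernel
      exact h2 i

/-- `M₁₂` as a permutation group on 12 points -/
theorem iso_M : Nonempty (Spor.M12 ≃* M) := by
  have e1 : Γ ⧸ sig.ker ≃* Spor.M12 := QuotientGroup.quotientKerEquivOfSurjective sig sig_surjective
  have e2 : Γ ⧸ lpH.ker ≃* lpH.range := QuotientGroup.quotientKerEquivRange lpH
  exact ⟨e1.symm.trans ((QuotientGroup.quotientMulEquivOfEq ker_lpH.symm).trans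
    (e2.trans (MulEquiv.subgroupCongr range_lpH)))⟩

theorem iso_X {X : Type*} [Group X] [Finite X] (hX : Cfsg.IsM12 X) : Nonempty (X ≃* M) := by
  have hs := CpAutTThree.MTwelve.simple
  have h12 : Cfsg.IsM12 Spor.M12 := ⟨hs, CpAutTThree.MTwelve.card⟩
  obtain ⟨e1⟩ := Cfsg.Agent.S0421.result hX Spor.squareDodecad sd_mem
  obtain ⟨e2⟩ := Cfsg.Agent.S0421.result h12 Spor.squareDodecad sd_mem
  obtain ⟨e3⟩ := iso_M
  exact ⟨e1.trans (e2.symm.trans e3)⟩

/-! ### Transfer -/

theorem card_classes_congr {G H : Type*} [Group G] [Group H] (e : G ≃* H) :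
    Nat.card (ConjClasses G) = Nat.card (ConjClasses H) := by
  refine Nat.card_congr ⟨ConjClasses.map e.toMonoidHom, ConjClasses.map e.symm.toMonoidHom, ?_, ?_⟩
  · intro c
    obtain ⟨g, rfl⟩ := ConjClasses.mk_surjective c
    show ConjClasses.mk (e.symm (e g)) = _
    rw [e.symm_apply_apply]
  · intro c
    obtain ⟨g, rfl⟩ := ConjClasses.mk_surjective c
    show ConjClasses.mk (e (e.symm g)) = _
    rw [e.apply_symm_apply]

/-- transfer of an overgroup of a Sylow subgroup to the permutation group -/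
theorem transfer {X : Type*} [Group X] [Finite X] (e : X ≃* M) {p : ℕ} [Fact p.Prime]
    (R : Subgroup (Equiv.Perm (Fin 12))) (hR : R ≤ M) (hp : IsPGroup p R) (T : Subgroup X) (hT : T ≠ ⊤)
    (Q : Sylow p X) (h : (Q : Subgroup X) ≤ T) :
    ∃ T' : Subgroup (Equiv.Perm (Fin 12)), T' ≤ M ∧ T' ≠ M ∧ R ≤ T' ∧ Nat.card T = Nat.card T' ∧
      Nat.card (ConjClasses T) = Nat.card (ConjClasses T') := by
  let f : X →* Equiv.Perm (Fin 12) := M.subtype.comp e.toMonoidHom
  have hf : Function.Injective f := M.subtype_injective.comp e.injective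
  have hpc : IsPGroup p (R.comap f) := hp.comap_of_injective f hf
  obtain ⟨Q', hQ'⟩ := hpc.exists_le_sylow
  obtain ⟨g, hg⟩ := MulAction.exists_smul_eq X Q Q'
  let φ : X →* Equiv.Perm (Fin 12) := f.comp (MulAut.conj g).toMonoidHom
  have hφ : Function.Injective φ := hf.comp (MulAut.conj g).injective
  have hle : T.map φ ≤ M := by
    rintro _ ⟨t, -, rfl⟩
    exact (e (MulAut.conj g t)).2
  refine ⟨T.map φ, hle, ?_, ?_, ?_, ?_⟩
  · intro he
    apply hT
    rw [eq_top_iff]
    intro t _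
    have h1 : φ t ∈ M := (e (MulAut.conj g t)).2
    rw [← he] at h1
    obtain ⟨t', ht', he'⟩ := h1
    rwa [← hφ he']
  · intro z hz
    obtain ⟨w, hw⟩ := e.surjective ⟨z, hR hz⟩
    have hfw : f w = z := congrArg Subtype.val hw
    have h1 : w ∈ R.comap f := by rw [Subgroup.mem_comap, hfw]; exact hz
    have h2 : w ∈ (Q' : Subgroup X) := hQ' h1
    rw [← hg, Sylow.smul_def, Sylow.pointwise_smul_def] at h2
    obtain ⟨q, hq, hqw⟩ := h2
    refine ⟨q, h hq, ?_⟩
    show f (MulAut.conj g q) = z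
    rw [← hfw]
    exact congrArg f hqw
  · exact Nat.card_congr (T.equivMapOfInjective φ hφ).toEquiv
  · exact card_classes_congr (T.equivMapOfInjective φ hφ)

theorem k_le {G : Type*} [Group G] [Finite G] : Nat.card (ConjClasses G) ≤ Nat.card G :=
  Nat.card_le_card_of_surjective _ ConjClasses.mk_surjective

/-- **a proper subgroup of `M₁₂` containing a Sylow 2-subgroup is small** -/
theorem big_two {X : Type*} [Group X] [Finite X] (hX : Cfsg.IsM12 X) (T : Subgroup X) (hT : T ≠ ⊤)
    (Q : Sylow 2 X) (h : (Q : Subgroup X) ≤ T) : 2 * (Nat.card T * Nat.card (ConjClasses T)) ≤ 95040 := by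
  obtain ⟨e⟩ := iso_X hX
  have : Fact (Nat.Prime 2) := ⟨Nat.prime_two⟩
  obtain ⟨T', h1, h2, h3, h4, h5⟩ := transfer e (cl Two.gens) Two.gens_mem Two.p_group T hT Q h
  have h6 := Two.card_le T' h1 h2 h3
  have h7 := k_le (G := T')
  rw [h4, h5]
  calc 2 * (Nat.card T' * Nat.card (ConjClasses T')) ≤ 2 * (192 * 192) :=
        Nat.mul_le_mul_left _ (Nat.mul_le_mul h6 (h7.trans h6))
    _ ≤ 95040 := by norm_num

/-- **a proper subgroup of `M₁₂` containing a Sylow 3-subgroup is small** -/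
theorem big_three {X : Type*} [Group X] [Finite X] (hX : Cfsg.IsM12 X) (T : Subgroup X) (hT : T ≠ ⊤)
    (Q : Sylow 3 X) (h : (Q : Subgroup X) ≤ T) : 2 * (Nat.card T * Nat.card (ConjClasses T)) ≤ 95040 := by
  obtain ⟨e⟩ := iso_X hX
  have : Fact (Nat.Prime 3) := ⟨Nat.prime_three⟩
  obtain ⟨T', h1, h2, h3, h4, h5⟩ := transfer e (cl Three.gens) Three.gens_mem Three.p_group T hT Q h
  have h7 := k_le (G := T')
  rw [h4, h5]
  rcases Three.le T' h1 h2 h3 with h6 | ⟨h6, h8⟩
  · calc 2 * (Nat.card T' * Nat.card (ConjClasses T')) ≤ 2 * (216 * 216) :=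
          Nat.mul_le_mul_left _ (Nat.mul_le_mul h6 (h7.trans h6))
      _ ≤ 95040 := by norm_num
  · calc 2 * (Nat.card T' * Nat.card (ConjClasses T')) ≤ 2 * (432 * 11) :=
          Nat.mul_le_mul_left _ (Nat.mul_le_mul h6 h8)
      _ ≤ 95040 := by norm_num

end Cfsg.Agent.H881.MF
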